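import Groth.Agent.FComplLib.Basic
import Mathlib.AlgebraicGeometry.ZariskisMainTheorem
import Mathlib.AlgebraicGeometry.Morphisms.Proper
import Mathlib.AlgebraicGeometry.Noetherian
import Mathlib.RingTheory.Noetherian.OfPrime

/-!
# Properties of morphisms lift along nilpotent thickenings of the base
-/

set_option autoImplicit false
universe u
open CategoryTheory CategoryTheory.Limits AlgebraicGeometry

namespace FComplLib

section Algebra

variable {A B C : Type u} [CommRing A] [CommRing B] [CommRing C]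

theorem eq_top_of_sup_nilpotent (φ : A →+* B) (I : Ideal A) (hI : IsNilpotent I) (S : Subring B)
    (hS : ∀ a, φ a ∈ S) (h : ∀ b, ∃ s ∈ S, b - s ∈ I.map φ) : S = ⊤ := by
  algebraize [φ]
  let S' : Submodule A B :=
    { carrier := S, add_mem' := S.add_mem, zero_mem' := S.zero_mem
      smul_mem' := fun a x hx => by rw [Algebra.smul_def]; exact S.mul_mem (hS a) hx }
  have hstep : ∀ (J : Ideal A), ∀ b, b ∈ J • (⊤ : Submodule A B) →
      b ∈ S' ⊔ (J * I) • (⊤ : Submodule A B) := by
    intro J b hb
    refine Submodule.smul_induction_on hb ?_ (fun x y hx hy => Submodule.add_mem _ hx hy)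
    intro r hr x _
    obtain ⟨s, hs, hxs⟩ := h x
    rw [show r • x = r • s + r • (x - s) by rw [← smul_add, add_sub_cancel]]
    refine Submodule.add_mem_sup (S'.smul_mem r hs) ?_
    rw [Submodule.mul_smul]
    refine Submodule.smul_mem_smul hr ?_
    rw [Ideal.smul_top_eq_map]
    exact hxs
  have hall : ∀ n b, b ∈ S' ⊔ (I ^ n) • (⊤ : Submodule A B) := by
    intro n
    induction n with
    | zero =>
      intro b
      exact Submodule.mem_sup_right (by rw [pow_zero, Ideal.one_eq_top, Submodule.top_smul]; trivial)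
    | succ n ih =>
      intro b
      obtain ⟨s, hs, t, ht, rfl⟩ := Submodule.mem_sup.mp (ih b)
      rw [pow_succ]
      exact Submodule.add_mem _ (Submodule.mem_sup_left hs) (hstep _ t ht)
  obtain ⟨n, hn⟩ := hI
  refine eq_top_iff.mpr fun b _ => ?_
  have := hall n b
  rw [hn] at this
  simpa [S'] using this

theorem surjective_of_thickening (φ : A →+* B) (π : B →+* C) (I : Ideal A) (hI : IsNilpotent I)
    (hπ : Function.Surjective (π.comp φ)) (hker : RingHom.ker π ≤ I.map φ) :
    Function.Surjective φ := by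
  refine fun b => ?_
  have h := eq_top_of_sup_nilpotent φ I hI φ.range (fun a => ⟨a, rfl⟩) fun x => by
    obtain ⟨a, ha⟩ := hπ (π x)
    refine ⟨φ a, ⟨a, rfl⟩, hker ?_⟩
    rw [RingHom.mem_ker, map_sub, ← ha]
    exact sub_self _
  exact h.ge (Subring.mem_top b)

theorem finiteType_of_thickening (φ : A →+* B) (π : B →+* C) (I : Ideal A) (hI : IsNilpotent I)
    (hs : Function.Surjective π)
    (hft : (π.comp φ).FiniteType) (hker : RingHom.ker π ≤ I.map φ) : φ.FiniteType := by
  algebraize [φ, π.comp φ]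
  let πa : B →ₐ[A] C := ⟨π, fun _ => rfl⟩
  obtain ⟨T, hT⟩ := (inferInstance : Algebra.FiniteType A C).out
  classical
  let g : C → B := Function.surjInv hs
  refine ⟨⟨T.image g, ?_⟩⟩
  set S := Algebra.adjoin A ((T.image g : Finset B) : Set B) with hSdef
  have hmap : S.map πa = ⊤ := by
    rw [hSdef, AlgHom.map_adjoin, Finset.coe_image, Set.image_image]
    have e : (fun x => πa (g x)) = id := funext fun x => Function.surjInv_eq hs x
    rw [e, Set.image_id, hT]
  have h := eq_top_of_sup_nilpotent φ I hI S.toSubring (fun a => S.algebraMap_mem a) fun x => by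
    obtain ⟨s, hsS, hsx⟩ := (hmap.ge (Algebra.mem_top (x := π x)) : π x ∈ S.map πa)
    refine ⟨s, hsS, hker ?_⟩
    rw [RingHom.mem_ker, map_sub]
    exact sub_eq_zero.mpr hsx.symm
  exact eq_top_iff.mpr fun b _ => h.ge (Subring.mem_top b)

theorem isNoetherianRing_of_thickening (π : A →+* C) (hπ : Function.Surjective π) [IsNoetherianRing C]
    (hn : IsNilpotent (RingHom.ker π)) (hfg : (RingHom.ker π).FG) : IsNoetherianRing A := by
  refine IsNoetherianRing.of_prime fun p hp => ?_
  have hle : RingHom.ker π ≤ p := by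
    intro x hx
    obtain ⟨n, hn⟩ := hn
    have := Ideal.pow_mem_pow hx n
    rw [hn] at this
    exact hp.mem_of_pow_mem n (by simp [Ideal.mem_bot.mp this])
  classical
  obtain ⟨T, hT⟩ := IsNoetherian.noetherian (p.map π)
  let g : C → A := Function.surjInv hπ
  have hp' : p = Ideal.span ((T.image g : Finset A) : Set A) ⊔ RingHom.ker π := by
    calc p = (p.map π).comap π := by
          rw [Ideal.comap_map_of_surjective _ hπ, ← RingHom.ker_eq_comap_bot, sup_eq_left.mpr hle]
      _ = ((Ideal.span ((T.image g : Finset A) : Set A)).map π).comap π := by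
          rw [Ideal.map_span, Finset.coe_image, Set.image_image]
          have e : (fun x => π (g x)) = id := funext fun x => Function.surjInv_eq hπ x
          rw [e, Set.image_id]
          exact congrArg _ hT.symm
      _ = _ := by rw [Ideal.comap_map_of_surjective _ hπ, ← RingHom.ker_eq_comap_bot]
  rw [hp']
  exact Submodule.FG.sup ⟨_, rfl⟩ hfg

end Algebra

variable {X₀ Y₀ X Y : Scheme.{u}} {i₀ : X₀ ⟶ X} {f₀ : X₀ ⟶ Y₀} {f : X ⟶ Y} {j : Y₀ ⟶ Y}

theorem isNilpotent_ker [IsLocallyNoetherian Y] [IsClosedImmersion j] [Surjective j]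
    (V : Y.affineOpens) : IsNilpotent (j.ker.ideal V) := by
  have := IsLocallyNoetherian.component_noetherian V
  obtain ⟨n, hn⟩ := IsNoetherianRing.isNilpotent_nilradical Γ(Y, V.1)
  refine ⟨n, bot_unique ?_⟩
  rw [← Ideal.zero_eq_bot, ← hn]
  refine Ideal.pow_right_mono ?_ n
  intro s hs
  rw [mem_nilradical, Scheme.isNilpotent_iff_basicOpen_eq_bot_of_isCompact V.2.isCompact]
  refine bot_unique fun y hy => ?_
  have hyV : y ∈ V.1 := Y.basicOpen_le s hy
  have hsupp : y ∈ j.ker.support := j.range_subset_ker_support (j.surjective y)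
  have := (Scheme.IdealSheafData.coe_support_inter j.ker V).le ⟨hsupp, hyV⟩
  exact absurd hy ((Y.mem_zeroLocus_iff _ _).mp this.1 s hs)

theorem ker_of_isPullback [IsClosedImmersion j] (sq : IsPullback i₀ f₀ f j) :
    i₀.ker = j.ker.comap f := by
  rw [← Scheme.IdealSheafData.ker_fst_of_isClosedImmersion, ← sq.isoPullback_hom_fst,
    Scheme.Hom.ker_comp_of_isIso]

theorem isClosedImmersion_of_isPullback [IsClosedImmersion j] (sq : IsPullback i₀ f₀ f j) :
    IsClosedImmersion i₀ :=
  MorphismProperty.of_isPullback sq.flip ‹_›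

theorem surjective_of_isPullback [Surjective j] (sq : IsPullback i₀ f₀ f j) : Surjective i₀ :=
  MorphismProperty.of_isPullback sq.flip ‹_›

/-- The ring map on sections of the reduction. -/
theorem chart [IsClosedImmersion j] (sq : IsPullback i₀ f₀ f j) (V : Y.affineOpens) (W : X.affineOpens)
    (e : W.1 ≤ f ⁻¹ᵁ V.1) :
    Function.Surjective (i₀.app W.1).hom ∧
      RingHom.ker (i₀.app W.1).hom = (j.ker.ideal V).map (f.appLE V.1 W.1 e).hom ∧
      f.appLE V.1 W.1 e ≫ i₀.app W.1 = j.app V.1 ≫ f₀.appLE (j ⁻¹ᵁ V.1) (i₀ ⁻¹ᵁ W.1)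
        (fun x hx => by
          have := e hx
          change f (i₀ x) ∈ V.1 at this
          change j (f₀ x) ∈ V.1
          rwa [← Scheme.Hom.comp_apply, ← sq.w, Scheme.Hom.comp_apply]) := by
  have := isClosedImmersion_of_isPullback sq
  refine ⟨i₀.app_surjective W.1 W.2, ?_, ?_⟩
  · rw [← Scheme.Hom.ker_apply i₀ W, ker_of_isPullback sq]
    exact Groth.Agent.S4666.ideal_comap_eq _ f V W e
  · rw [Scheme.Hom.app_eq_appLE, Scheme.Hom.app_eq_appLE, Scheme.Hom.appLE_comp_appLE,
      Scheme.Hom.appLE_comp_appLE]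
    simp only [sq.w]

theorem locallyOfFiniteType_of_thickening [IsLocallyNoetherian Y] [IsClosedImmersion j] [Surjective j]
    (sq : IsPullback i₀ f₀ f j) [LocallyOfFiniteType f₀] : LocallyOfFiniteType f := by
  refine ⟨fun {V} hV {W} hW e => ?_⟩
  obtain ⟨hs, hk, hc⟩ := chart sq ⟨V, hV⟩ ⟨W, hW⟩ e
  have := isClosedImmersion_of_isPullback sq
  refine finiteType_of_thickening _ _ _ (isNilpotent_ker (j := j) ⟨V, hV⟩) hs ?_ hk.le
  rw [← CommRingCat.hom_comp, hc, CommRingCat.hom_comp]
  exact RingHom.FiniteType.comp (LocallyOfFiniteType.finiteType_appLE f₀ (hV.preimage j) (hW.preimage i₀) _)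
    (RingHom.FiniteType.of_surjective _ (j.app_surjective V hV))

theorem universallyClosed_of_thickening [IsClosedImmersion j] [Surjective j]
    (sq : IsPullback i₀ f₀ f j) [UniversallyClosed f₀] : UniversallyClosed f := by
  have := surjective_of_isPullback sq
  have : UniversallyClosed (i₀ ≫ f) := by rw [sq.w]; infer_instance
  exact UniversallyClosed.of_comp_surjective i₀ f

theorem isSeparated_of_thickening [IsClosedImmersion j] [Surjective j]
    (sq : IsPullback i₀ f₀ f j) [IsSeparated f₀] : IsSeparated f := by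
  have := surjective_of_isPullback sq
  have := isClosedImmersion_of_isPullback sq
  have hsep : IsSeparated (i₀ ≫ f) := by rw [sq.w]; infer_instance
  let m := pullback.map (i₀ ≫ f) (i₀ ≫ f) f f i₀ i₀ (𝟙 Y) (by simp) (by simp)
  have hm : IsClosedImmersion m :=
    MorphismProperty.pullbackMap (P := @IsClosedImmersion) ‹_› ‹_› rfl rfl
  have hd : pullback.diagonal (i₀ ≫ f) ≫ m = i₀ ≫ pullback.diagonal f := by
    apply pullback.hom_ext
    · simp only [m, Category.assoc, pullback.lift_fst, pullback.diagonal_fst_assoc,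
        pullback.diagonal_fst, Category.comp_id]
    · simp only [m, Category.assoc, pullback.lift_snd, pullback.diagonal_snd_assoc,
        pullback.diagonal_snd, Category.comp_id]
  refine ⟨IsClosedImmersion.of_isPreimmersion _ ?_⟩
  have he : Set.range (pullback.diagonal f) = Set.range (pullback.diagonal (i₀ ≫ f) ≫ m) := by
    rw [hd, Scheme.Hom.comp_base, TopCat.coe_comp, Set.range_comp, i₀.surjective.range_eq,
      Set.image_univ]
  rw [he]
  exact (pullback.diagonal (i₀ ≫ f) ≫ m).isClosedEmbedding.isClosed_range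

theorem isProper_of_thickening [IsLocallyNoetherian Y] [IsClosedImmersion j] [Surjective j]
    (sq : IsPullback i₀ f₀ f j) [IsProper f₀] : IsProper f where
  toIsSeparated := isSeparated_of_thickening sq
  toUniversallyClosed := universallyClosed_of_thickening sq
  toLocallyOfFiniteType := locallyOfFiniteType_of_thickening sq

theorem isFinite_of_thickening [IsLocallyNoetherian Y] [IsClosedImmersion j] [Surjective j]
    (sq : IsPullback i₀ f₀ f j) [IsFinite f₀] : IsFinite f := by
  have := isProper_of_thickening sq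
  have := surjective_of_isPullback sq
  have : LocallyQuasiFinite f := LocallyQuasiFinite.of_finite_preimage_singleton f fun y => by
    obtain ⟨y₀, rfl⟩ := j.surjective y
    refine ((f₀.finite_preimage_singleton y₀).image i₀).subset ?_
    intro x hx
    obtain ⟨x₀, rfl⟩ := i₀.surjective x
    refine ⟨x₀, ?_, rfl⟩
    apply j.isEmbedding.injective
    rw [← Scheme.Hom.comp_apply, ← sq.w, Scheme.Hom.comp_apply]
    exact hx
  exact IsFinite.of_isProper_of_locallyQuasiFinite f

theorem surjective_appLE {X Y : Scheme.{u}} (g : X ⟶ Y) [IsClosedImmersion g] (V : Y.Opens)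
    (hV : IsAffineOpen V) (W : X.Opens) (e : W ≤ g ⁻¹ᵁ V) (h : W = g ⁻¹ᵁ V) :
    Function.Surjective (g.appLE V W e).hom := by
  subst h
  rw [← Scheme.Hom.app_eq_appLE]
  exact g.app_surjective V hV

theorem isClosedImmersion_of_thickening [IsLocallyNoetherian Y] [IsClosedImmersion j] [Surjective j]
    (sq : IsPullback i₀ f₀ f j) [IsClosedImmersion f₀] : IsClosedImmersion f := by
  have := isFinite_of_thickening sq
  rw [isClosedImmersion_iff_isAffineHom]
  refine ⟨inferInstance, fun U hU => ?_⟩
  obtain ⟨hs, hk, hc⟩ := chart sq ⟨U, hU⟩ ⟨f ⁻¹ᵁ U, hU.preimage f⟩ le_rfl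
  rw [Scheme.Hom.app_eq_appLE]
  refine surjective_of_thickening _ (i₀.app _).hom _ (isNilpotent_ker (j := j) ⟨U, hU⟩) ?_ hk.le
  rw [← CommRingCat.hom_comp, hc, CommRingCat.hom_comp]
  rw [RingHom.coe_comp]
  refine Function.Surjective.comp (g := ⇑(f₀.appLE (j ⁻¹ᵁ U) (i₀ ⁻¹ᵁ (f ⁻¹ᵁ U)) _).hom) ?_
    (j.app_surjective U hU)
  refine surjective_appLE f₀ _ (hU.preimage j) _ _ ?_
  rw [← Scheme.Hom.comp_preimage, ← Scheme.Hom.comp_preimage, sq.w]

end FComplLib
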