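import Groth.Agent.FComplLib.Completion
import Groth.Agent.FComplLib.Thicken
import Groth.Agent.S2301
import Mathlib.AlgebraicGeometry.ZariskisMainTheorem

/-!
# Properties of completed morphisms hold near the closed subset
-/

set_option autoImplicit false
universe u
open CategoryTheory CategoryTheory.Limits AlgebraicGeometry TopologicalSpace FSch

namespace FComplLib

section Local

variable {X Y : Scheme.{u}} (f : X ⟶ Y)

theorem restrict_of_le (P : MorphismProperty Scheme.{u}) [P.IsStableUnderBaseChange]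
    {V W : Y.Opens} (h : V ≤ W) (hP : P (f ∣_ W)) : P (f ∣_ V) := by
  have hsq : IsPullback (f ∣_ V) (X.homOfLE (f.preimage_mono h)) (Y.homOfLE h) (f ∣_ W) := by
    refine IsPullback.of_bot (t := isPullback_morphismRestrict f W) ?_ ?_
    · rw [Scheme.homOfLE_ι, Scheme.homOfLE_ι]
      exact isPullback_morphismRestrict f V
    · rw [← cancel_mono W.ι]
      simp
  exact MorphismProperty.of_isPullback (P := P) hsq.flip hP

theorem restrict_iSup (P : MorphismProperty Scheme.{u}) [IsZariskiLocalAtTarget P] {ι : Type*}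
    (W : ι → Y.Opens) (hP : ∀ i, P (f ∣_ W i)) : P (f ∣_ ⨆ i, W i) := by
  refine (IsZariskiLocalAtTarget.iff_of_iSup_eq_top (P := P)
    (fun i => (⨆ i, W i).ι ⁻¹ᵁ W i) ?_).mpr fun i => ?_
  · rw [← Scheme.Hom.preimage_iSup, Scheme.Opens.ι_preimage_self]
  · refine (P.arrow_mk_iso_iff (morphismRestrictRestrict f _ _ ≪≫ morphismRestrictEq f ?_)).mpr (hP i)
    rw [Scheme.Hom.image_preimage_eq_opensRange_inf, Scheme.Opens.opensRange_ι, inf_eq_right]
    exact le_iSup W i

theorem restrict_of_restrict (P : MorphismProperty Scheme.{u}) [P.RespectsIso] {V : Y.Opens}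
    {D : (V : Scheme.{u}).Opens} (hP : P ((f ∣_ V) ∣_ D)) : P (f ∣_ (V.ι ''ᵁ D)) :=
  (P.arrow_mk_iso_iff (morphismRestrictRestrict f V D)).mp hP

end Local

section Affine

variable {X Y : Scheme.{u}} [IsAffine Y] [IsLocallyNoetherian Y] (f : X ⟶ Y) [IsFinite f]
  (K : Y.IdealSheafData)

theorem exists_open_of_affine (y : Y) (hy : y ∈ K.support)
    (hlev : ∀ n : ℕ, IsClosedImmersion (pullback.snd f (K ^ (n + 1)).subschemeι)) :
    (∃ D : Y.Opens, y ∈ D ∧ IsClosedImmersion (f ∣_ D)) ∧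
      ((∀ n : ℕ, IsIso (pullback.snd f (K ^ (n + 1)).subschemeι)) →
        ∃ D : Y.Opens, y ∈ D ∧ IsIso (f ∣_ D)) := by
  let T : Y.affineOpens := ⟨⊤, isAffineOpen_top Y⟩
  have hfT : IsAffineOpen (f ⁻¹ᵁ (⊤ : Y.Opens)) := T.2.preimage f
  let A := Γ(Y, ⊤)
  let B := Γ(X, f ⁻¹ᵁ ⊤)
  let φ : A →+* B := (f.app ⊤).hom
  let J : Ideal A := K.ideal T
  haveI : IsNoetherianRing A := IsLocallyNoetherian.component_noetherian T
  -- the level maps
  have hlevel : ∀ n : ℕ, (∀ b : B, ∃ a : A, b - φ a ∈ (J ^ (n + 1)).map φ) ∧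
      (IsIso (pullback.snd f (K ^ (n + 1)).subschemeι) → ∀ a : A, φ a = 0 → a ∈ J ^ (n + 1)) := by
    intro n
    let j := (K ^ (n + 1)).subschemeι
    have := hlev n
    obtain ⟨hs, hk, hc⟩ := chart (i₀ := pullback.fst f j) (f₀ := pullback.snd f j) (f := f) (j := j)
      (IsPullback.of_hasPullback f j) T ⟨f ⁻¹ᵁ ⊤, hfT⟩ le_rfl
    have hkerj : j.ker.ideal T = J ^ (n + 1) := by
      rw [Scheme.IdealSheafData.ker_subschemeι, Scheme.IdealSheafData.ideal_pow, Pi.pow_apply]
    rw [hkerj, ← Scheme.Hom.app_eq_appLE] at hk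
    rw [← Scheme.Hom.app_eq_appLE] at hc
    refine ⟨fun b => ?_, fun hiso a ha => ?_⟩
    · have hsur : Function.Surjective ((pullback.snd f j).appLE (j ⁻¹ᵁ T.1)
          (pullback.fst f j ⁻¹ᵁ (f ⁻¹ᵁ ⊤)) (by
            rw [← Scheme.Hom.comp_preimage, ← Scheme.Hom.comp_preimage, pullback.condition])).hom :=
        surjective_appLE _ _ (T.2.preimage j) _ _ (by
          rw [← Scheme.Hom.comp_preimage, ← Scheme.Hom.comp_preimage, pullback.condition])
      obtain ⟨c, hcb⟩ := hsur ((pullback.fst f j).app (f ⁻¹ᵁ ⊤) b)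
      obtain ⟨a, rfl⟩ := j.app_surjective T.1 T.2 c
      refine ⟨a, hk.le ?_⟩
      rw [RingHom.mem_ker, map_sub, sub_eq_zero, ← hcb]
      exact (congr($hc a)).symm
    · have h1 := congr($hc a)
      have hbij : Function.Bijective ((pullback.snd f j).app (j ⁻¹ᵁ T.1)) :=
        ConcreteCategory.bijective_of_isIso _
      have h2 : (pullback.snd f j).appLE (j ⁻¹ᵁ T.1) (pullback.fst f j ⁻¹ᵁ (f ⁻¹ᵁ ⊤)) (by
            rw [← Scheme.Hom.comp_preimage, ← Scheme.Hom.comp_preimage, pullback.condition])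
            (j.app T.1 a) = 0 := by
        refine h1.symm.trans ?_
        change (pullback.fst f j).app _ (φ a) = 0
        rw [ha, map_zero]
      have h3 : j.app T.1 a = 0 := by
        refine injective_appLE_of_isIso (pullback.snd f j) _ _ _ ?_ (h2.trans (map_zero _).symm)
        rw [← Scheme.Hom.comp_preimage, ← Scheme.Hom.comp_preimage, pullback.condition]
      rw [← hkerj, Scheme.Hom.ker_apply]
      exact h3
  -- Nakayama
  algebraize [φ]
  haveI : Module.Finite A B := IsFinite.finite_app (f := f) ⊤ T.2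
  obtain ⟨a, ha1, ha2⟩ : ∃ a : A, a - 1 ∈ J ∧ ∀ b : B, ∃ c : A, φ c = φ a * b := by
    let N : Submodule A B := LinearMap.range (Algebra.linearMap A B)
    have hfg : (⊤ : Submodule A (B ⧸ N)).FG := Module.Finite.fg_top
    obtain ⟨r, hr1, hr2⟩ := Submodule.exists_sub_one_mem_and_smul_eq_zero_of_fg_of_le_smul J ⊤ hfg (by
      intro q _
      obtain ⟨b, rfl⟩ := Submodule.Quotient.mk_surjective N q
      obtain ⟨c, hc⟩ := (hlevel 0).1 b
      rw [zero_add, pow_one] at hc
      have hmem : b - φ c ∈ J • (⊤ : Submodule A B) := by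
        rw [Ideal.smul_top_eq_map]; exact hc
      have hq : (Submodule.Quotient.mk b : B ⧸ N) = Submodule.Quotient.mk (b - φ c) := by
        rw [Submodule.Quotient.eq, sub_sub_cancel]
        exact ⟨c, rfl⟩
      rw [hq]
      have := Submodule.mem_map_of_mem (f := N.mkQ) hmem
      rw [Submodule.map_smul''] at this
      exact Submodule.smul_mono le_rfl le_top this)
    refine ⟨r, hr1, fun b => ?_⟩
    have := hr2 (Submodule.Quotient.mk b) trivial
    rw [← Submodule.Quotient.mk_smul, Submodule.Quotient.mk_eq_zero] at this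
    obtain ⟨c, hc⟩ := this
    exact ⟨c, hc⟩
  obtain ⟨e, he1, he2⟩ := Groth.Agent.S2301.exists_kills_iInf_pow J
  have hmemD : ∀ s : A, s - 1 ∈ J → y ∈ Y.basicOpen s := by
    intro s hs
    rw [Scheme.mem_basicOpen_top]
    have hz := (K.mem_support_iff_of_mem (U := T) trivial).mp hy
    rw [Scheme.mem_zeroLocus_iff] at hz
    have hne := hz (s - 1) hs
    rw [Scheme.mem_basicOpen_top, map_sub, map_one] at hne
    rcases IsLocalRing.isUnit_or_isUnit_one_sub_self (Y.presheaf.germ ⊤ y trivial s) with h1 | h1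
    · exact h1
    · exact absurd (by rw [← neg_sub]; exact h1.neg) hne
  -- over a basic open
  have main : ∀ s : A, a ∣ s →
      IsClosedImmersion (f ∣_ Y.basicOpen s) ∧
        ((∀ x : A, φ x = 0 → s * x = 0) → IsIso (f ∣_ Y.basicOpen s)) := by
    intro s has
    haveI : IsAffine (Y.basicOpen s : Scheme.{u}) := T.2.basicOpen s
    have hpre : f ⁻¹ᵁ Y.basicOpen s = X.basicOpen (φ s) := Scheme.preimage_basicOpen f s
    haveI : IsAffine (f ⁻¹ᵁ Y.basicOpen s : Scheme.{u}) := by rw [hpre]; exact hfT.basicOpen _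
    have htop := morphismRestrict_app' f (Y.basicOpen s) ⊤
    -- the map of localisations
    let D := Y.basicOpen s
    have hDtop : D ≤ (⊤ : Y.Opens) := le_top
    let ψ : Γ(Y, D) →+* Γ(X, f ⁻¹ᵁ D) := (f.app D).hom
    haveI hlocA := T.2.isLocalization_basicOpen s
    letI algB : Algebra B Γ(X, f ⁻¹ᵁ D) :=
      (X.presheaf.map (homOfLE (f.preimage_mono hDtop)).op).hom.toAlgebra
    haveI hlocB : IsLocalization.Away (φ s) Γ(X, f ⁻¹ᵁ D) := by
      exact IsAffineOpen.isLocalization_of_eq_basicOpen hfT _ (homOfLE (f.preimage_mono hDtop)) hpre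
    have hcomm : ∀ x : A, ψ (algebraMap A Γ(Y, D) x) = algebraMap B Γ(X, f ⁻¹ᵁ D) (φ x) := fun x =>
      congr($(f.naturality (homOfLE hDtop).op) x)
    have hsur : Function.Surjective ψ := by
      intro z
      obtain ⟨⟨b, ⟨_, k, rfl⟩⟩, rfl⟩ := IsLocalization.mk'_surjective (Submonoid.powers (φ s)) z
      obtain ⟨t, rfl⟩ := has
      obtain ⟨c, hc⟩ := ha2 b
      refine ⟨IsLocalization.mk' Γ(Y, D) (t * c) (⟨(a * t) ^ (k + 1), k + 1, rfl⟩ : Submonoid.powers (a * t)), ?_⟩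
      rw [eq_comm, IsLocalization.mk'_eq_iff_eq_mul]
      have hspec := congrArg ψ (IsLocalization.mk'_spec Γ(Y, D) (t * c)
        (⟨(a * t) ^ (k + 1), k + 1, rfl⟩ : Submonoid.powers (a * t)))
      rw [map_mul, hcomm, hcomm] at hspec
      have hu : IsUnit (algebraMap B Γ(X, f ⁻¹ᵁ D) (φ (a * t))) :=
        IsLocalization.Away.algebraMap_isUnit (φ (a * t))
      refine hu.mul_right_cancel ?_
      rw [mul_assoc, ← map_mul (algebraMap B Γ(X, f ⁻¹ᵁ D)) (φ (a * t) ^ k), ← pow_succ, ← map_pow φ,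
        hspec, map_mul φ t c, hc, map_mul φ a t, ← map_mul]
      congr 1
      ring
    refine ⟨?_, fun hinj => ?_⟩
    · refine IsClosedImmersion.of_surjective_of_isAffine _ ?_
      rw [Scheme.Hom.appTop, htop]
      exact surjective_appLE_of_app f _ _ _ (by constructor <;> simp [D, hpre]) hsur
    · suffices h : IsIso (f ∣_ Y.basicOpen s).appTop by
        exact isIso_of_appTop _ h
      rw [Scheme.Hom.appTop, htop]
      refine isIso_appLE_of_app f _ _ _ (by constructor <;> simp [D, hpre]) ⟨?_, hsur⟩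
      rw [injective_iff_map_eq_zero]
      intro z hz
      obtain ⟨⟨x, ⟨_, k, rfl⟩⟩, rfl⟩ := IsLocalization.mk'_surjective (Submonoid.powers s) z
      have h0 : algebraMap B Γ(X, f ⁻¹ᵁ D) (φ x) = 0 := by
        rw [← hcomm, ← IsLocalization.mk'_spec Γ(Y, D) x (⟨s ^ k, k, rfl⟩ : Submonoid.powers s),
          map_mul, hz, zero_mul]
      obtain ⟨⟨_, m, rfl⟩, hm⟩ := (IsLocalization.map_eq_zero_iff (Submonoid.powers (φ s)) _ _).mp h0
      rw [IsLocalization.mk'_eq_zero_iff]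
      refine ⟨⟨s ^ (m + 1), m + 1, rfl⟩, ?_⟩
      have := hinj (s ^ m * x) (by rw [map_mul, map_pow]; exact hm)
      rw [← mul_assoc, ← pow_succ'] at this
      exact this
  refine ⟨⟨Y.basicOpen a, hmemD a ha1, (main a dvd_rfl).1⟩, fun hiso => ?_⟩
  refine ⟨Y.basicOpen (a * e), hmemD _ ?_, (main _ (dvd_mul_right a e)).2 fun x hx => ?_⟩
  · rw [show a * e - 1 = (a - 1) * e + (e - 1) by ring]
    exact J.add_mem (J.mul_mem_right e ha1) he1
  · rw [mul_assoc, he2 x fun n => (hlevel n).2 (hiso n) x hx, mul_zero]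
where
  isIso_of_appTop {X Y : Scheme.{u}} (g : X ⟶ Y) [IsAffine X] [IsAffine Y] (h : IsIso g.appTop) :
      IsIso g := by
    have e : g = X.isoSpec.hom ≫ Spec.map g.appTop ≫ Y.isoSpec.inv := by
      rw [Scheme.isoSpec_inv_naturality, Iso.hom_inv_id_assoc]
    rw [e]
    infer_instance
  injective_appLE_of_isIso {X Y : Scheme.{u}} (g : X ⟶ Y) [IsIso g] (V : Y.Opens) (W : X.Opens)
      (e : W ≤ g ⁻¹ᵁ V) (h : W = g ⁻¹ᵁ V) : Function.Injective (g.appLE V W e).hom := by
    subst h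
    rw [← Scheme.Hom.app_eq_appLE]
    exact (ConcreteCategory.bijective_of_isIso (g.app V)).1
  surjective_appLE_of_app {X Y : Scheme.{u}} (g : X ⟶ Y) {D : Y.Opens} (V : Y.Opens) (W : X.Opens)
      (e : W ≤ g ⁻¹ᵁ V) (h : V = D ∧ W = g ⁻¹ᵁ D) (hs : Function.Surjective (g.app D).hom) :
      Function.Surjective (g.appLE V W e).hom := by
    obtain ⟨rfl, rfl⟩ := h
    rwa [← Scheme.Hom.app_eq_appLE]
  isIso_appLE_of_app {X Y : Scheme.{u}} (g : X ⟶ Y) {D : Y.Opens} (V : Y.Opens) (W : X.Opens)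
      (e : W ≤ g ⁻¹ᵁ V) (h : V = D ∧ W = g ⁻¹ᵁ D) (hs : Function.Bijective (g.app D).hom) :
      IsIso (g.appLE V W e) := by
    obtain ⟨rfl, rfl⟩ := h
    rw [← Scheme.Hom.app_eq_appLE]
    exact (ConcreteCategory.isIso_iff_bijective _).mpr hs

end Affine

section Global

variable {X Y Z : Scheme.{u}} [IsLocallyNoetherian Y] (f : X ⟶ Y) [IsProper f] (K : Y.IdealSheafData)

theorem level_restrict (P : MorphismProperty Scheme.{u}) [P.IsStableUnderBaseChange] (n : ℕ)
    (V : Y.Opens) (hP : P (pullback.snd f (K ^ (n + 1)).subschemeι)) :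
    P (pullback.snd (f ∣_ V) ((K.comap V.ι) ^ (n + 1)).subschemeι) := by
  have hj := completion_level_isPullback V.ι K (powCompat_comap V.ι K) n
  have hbig2 := (IsPullback.of_hasPullback (f ∣_ V) ((K.comap V.ι) ^ (n + 1)).subschemeι).paste_horiz
    (isPullback_morphismRestrict f V).flip
  have he : ((K.comap V.ι) ^ (n + 1)).subschemeι ≫ V.ι =
      (completionMap V.ι (K.comap V.ι) K (powCompat_comap V.ι K) : FSch.Hom _ _).app n ≫
        (K ^ (n + 1)).subschemeι := (completionMap_app_ι V.ι _ K _ n).symm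
  rw [he] at hbig2
  let g' : pullback (f ∣_ V) ((K.comap V.ι) ^ (n + 1)).subschemeι ⟶ pullback f (K ^ (n + 1)).subschemeι :=
    pullback.lift (pullback.fst _ _ ≫ (f ⁻¹ᵁ V).ι)
      (pullback.snd (f ∣_ V) ((K.comap V.ι) ^ (n + 1)).subschemeι ≫
        (completionMap V.ι (K.comap V.ι) K (powCompat_comap V.ι K) : FSch.Hom _ _).app n)
      hbig2.w
  rw [show pullback.fst (f ∣_ V) ((K.comap V.ι) ^ (n + 1)).subschemeι ≫ (f ⁻¹ᵁ V).ι =
    g' ≫ pullback.fst f (K ^ (n + 1)).subschemeι from (pullback.lift_fst _ _ _).symm] at hbig2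
  exact MorphismProperty.of_isPullback (P := P)
    (IsPullback.of_right hbig2 (pullback.lift_snd _ _ _)
      (IsPullback.of_hasPullback f (K ^ (n + 1)).subschemeι)) hP

theorem exists_open_of_levels
    (hlev : ∀ n : ℕ, IsClosedImmersion (pullback.snd f (K ^ (n + 1)).subschemeι)) :
    (∃ W : Y.Opens, (K.support : Set Y) ⊆ W ∧ IsClosedImmersion (f ∣_ W)) ∧
      ((∀ n : ℕ, IsIso (pullback.snd f (K ^ (n + 1)).subschemeι)) →
        ∃ W : Y.Opens, (K.support : Set Y) ⊆ W ∧ IsIso (f ∣_ W)) := by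
  have hloc : ∀ y ∈ (K.support : Set Y), (∃ D : Y.Opens, y ∈ D ∧ IsClosedImmersion (f ∣_ D)) ∧
      ((∀ n : ℕ, IsIso (pullback.snd f (K ^ (n + 1)).subschemeι)) →
        ∃ D : Y.Opens, y ∈ D ∧ IsIso (f ∣_ D)) := by
    intro y hy
    have hfib : (f ⁻¹' {y}).Finite := by
      refine Set.Subsingleton.finite fun x₁ h₁ x₂ h₂ => ?_
      have hy' : y ∈ Set.range (K ^ (0 + 1)).subschemeι := by
        rw [Scheme.IdealSheafData.range_subschemeι, Scheme.IdealSheafData.support_pow_succ]; exact hy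
      obtain ⟨z, hz⟩ := hy'
      obtain ⟨p₁, hp₁, hq₁⟩ := Scheme.Pullback.exists_preimage_pullback (f := f)
        (g := (K ^ (0 + 1)).subschemeι) x₁ z (h₁.trans hz.symm)
      obtain ⟨p₂, hp₂, hq₂⟩ := Scheme.Pullback.exists_preimage_pullback (f := f)
        (g := (K ^ (0 + 1)).subschemeι) x₂ z (h₂.trans hz.symm)
      have := hlev 0
      rw [← hp₁, ← hp₂, (pullback.snd f _).isClosedEmbedding.injective (hq₁.trans hq₂.symm)]
    obtain ⟨V₀, hyV₀, hfin⟩ := exists_isFinite_morphismRestrict_of_finite_preimage_singleton f y hfib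
    obtain ⟨V, hyV, hVV₀⟩ := BlowUpLib.exists_affine y hyV₀
    have : IsFinite (f ∣_ V.1) := restrict_of_le f @IsFinite hVV₀ hfin
    haveI : IsAffine (V.1 : Scheme.{u}) := V.2
    have h := exists_open_of_affine (f ∣_ V.1) (K.comap V.1.ι) ⟨y, hyV⟩ (by
      rw [Scheme.IdealSheafData.support_comap]; exact hy)
      (fun n => level_restrict f K @IsClosedImmersion n V.1 (hlev n))
    refine ⟨?_, fun hiso => ?_⟩
    · obtain ⟨D, hD, hP⟩ := h.1
      exact ⟨V.1.ι ''ᵁ D, ⟨⟨y, hyV⟩, hD, rfl⟩, restrict_of_restrict f @IsClosedImmersion hP⟩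
    · obtain ⟨D, hD, hP⟩ := h.2 fun n =>
        (level_restrict f K (MorphismProperty.isomorphisms _) n V.1 (hiso n) :)
      exact ⟨V.1.ι ''ᵁ D, ⟨⟨y, hyV⟩, hD, rfl⟩,
        restrict_of_restrict f (MorphismProperty.isomorphisms _) hP⟩
  refine ⟨?_, fun hiso => ?_⟩
  · choose D hD hP using fun y : (K.support : Set Y) => (hloc y y.2).1
    exact ⟨⨆ y, D y, fun y hy => Opens.mem_iSup.mpr ⟨⟨y, hy⟩, hD ⟨y, hy⟩⟩,
      restrict_iSup f @IsClosedImmersion D hP⟩
  · choose D hD hP using fun y : (K.support : Set Y) => (hloc y y.2).2 hiso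
    exact ⟨⨆ y, D y, fun y hy => Opens.mem_iSup.mpr ⟨⟨y, hy⟩, hD ⟨y, hy⟩⟩,
      restrict_iSup f (MorphismProperty.isomorphisms _) D hP⟩

theorem level_of_open (P : MorphismProperty Scheme.{u}) [P.IsStableUnderBaseChange] (n : ℕ)
    (W : Y.Opens) (hW : (K.support : Set Y) ⊆ W) (hP : P (f ∣_ W)) :
    P (pullback.snd f (K ^ (n + 1)).subschemeι) := by
  let j := (K ^ (n + 1)).subschemeι
  have hr : Set.range j ⊆ Set.range W.ι := by
    rw [Scheme.IdealSheafData.range_subschemeι, Scheme.IdealSheafData.support_pow_succ,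
      Scheme.Opens.range_ι]
    exact hW
  let j' := IsOpenImmersion.lift W.ι j hr
  have hj : j' ≫ W.ι = j := IsOpenImmersion.lift_fac _ _ _
  have hsq : IsPullback (pullback.fst f j) (pullback.snd f j) f (j' ≫ W.ι) := by
    rw [hj]; exact IsPullback.of_hasPullback f j
  have hr2 : Set.range (pullback.fst f j) ⊆ Set.range (f ⁻¹ᵁ W).ι := by
    rw [Scheme.Opens.range_ι]
    rintro _ ⟨p, rfl⟩
    change f (pullback.fst f j p) ∈ W
    rw [← Scheme.Hom.comp_apply, pullback.condition, Scheme.Hom.comp_apply]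
    have := hr ⟨pullback.snd f j p, rfl⟩
    rwa [Scheme.Opens.range_ι] at this
  let q := IsOpenImmersion.lift (f ⁻¹ᵁ W).ι (pullback.fst f j) hr2
  have hq : q ≫ (f ⁻¹ᵁ W).ι = pullback.fst f j := IsOpenImmersion.lift_fac _ _ _
  rw [← hq] at hsq
  refine MorphismProperty.of_isPullback (P := P)
    (IsPullback.of_bot (h₁₁ := pullback.snd f j) (h₂₁ := f ∣_ W) hsq.flip ?_
      (isPullback_morphismRestrict f W)).flip hP
  rw [← cancel_mono W.ι, Category.assoc, Category.assoc, morphismRestrict_ι, hj, ← Category.assoc, hq]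
  exact pullback.condition.symm

theorem level_iff (P : MorphismProperty Scheme.{u}) [P.RespectsIso] {I : X.IdealSheafData}
    (hI : I = K.comap f) (hc : PowCompat f I K) (n : ℕ) :
    P ((completionMap f I K hc : FSch.Hom _ _).app n) ↔
      P (pullback.snd f (K ^ (n + 1)).subschemeι) := by
  subst hI
  have h := completion_level_isPullback f K hc n
  rw [← h.isoPullback_hom_snd]
  exact P.cancel_left_of_respectsIso h.isoPullback.hom _

end Global

section Base

variable {X Y Z : Scheme.{u}} [IsLocallyNoetherian Z] (g : X ⟶ Z) (h : Y ⟶ Z) [IsProper g]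
  [IsProper h] (f : X ⟶ Y) (w : f ≫ h = g) (𝓙 : Z.IdealSheafData)

theorem exists_base_open [IsProper h] (W : Y.Opens) (hW : ((𝓙.comap h).support : Set Y) ⊆ W) :
    ∃ U : Z.Opens, (𝓙.support : Set Z) ⊆ U ∧ h ⁻¹ᵁ U ≤ W := by
  refine ⟨⟨(h '' ((W : Set Y)ᶜ))ᶜ, (h.isClosedMap _ W.isOpen.isClosed_compl).isOpen_compl⟩, ?_, ?_⟩
  · rintro z hz ⟨y, hy, rfl⟩
    exact hy (hW (by rw [Scheme.IdealSheafData.support_comap]; exact hz))
  · intro y hy
    by_contra h'
    exact hy ⟨y, h', rfl⟩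

include w in
theorem near_iff (hc : PowCompat f (𝓙.comap g) (𝓙.comap h)) :
    ((∀ n : ℕ, IsClosedImmersion
        ((completionMap f (𝓙.comap g) (𝓙.comap h) hc : FSch.Hom _ _).app n)) ↔
      ∃ U : Z.Opens, (𝓙.support : Set Z) ⊆ U ∧ IsClosedImmersion (f ∣_ h ⁻¹ᵁ U)) ∧
    ((∀ n : ℕ, IsIso ((completionMap f (𝓙.comap g) (𝓙.comap h) hc : FSch.Hom _ _).app n)) ↔
      ∃ U : Z.Opens, (𝓙.support : Set Z) ⊆ U ∧ IsIso (f ∣_ h ⁻¹ᵁ U)) := by
  have hI : 𝓙.comap g = (𝓙.comap h).comap f := by rw [← Scheme.IdealSheafData.comap_comp, w]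
  haveI : IsLocallyNoetherian Y := LocallyOfFiniteType.isLocallyNoetherian h
  haveI : IsProper f := by
    haveI : IsProper (f ≫ h) := w ▸ ‹IsProper g›
    exact IsProper.of_comp f h
  have hsupp : ∀ U : Z.Opens, (𝓙.support : Set Z) ⊆ U →
      ((𝓙.comap h).support : Set Y) ⊆ (h ⁻¹ᵁ U : Y.Opens) := fun U hU y hy => by
    rw [Scheme.IdealSheafData.support_comap] at hy
    exact hU hy
  have hlev := fun P [MorphismProperty.RespectsIso P] n => level_iff f (𝓙.comap h) P hI hc n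
  refine ⟨⟨fun hn => ?_, ?_⟩, ⟨fun hn => ?_, ?_⟩⟩
  · obtain ⟨W, hW, hP⟩ := (exists_open_of_levels f (𝓙.comap h)
      fun n => (hlev @IsClosedImmersion n).mp (hn n)).1
    obtain ⟨U, hU, hUW⟩ := exists_base_open h 𝓙 W hW
    exact ⟨U, hU, restrict_of_le f @IsClosedImmersion hUW hP⟩
  · rintro ⟨U, hU, hP⟩ n
    exact (hlev @IsClosedImmersion n).mpr
      (level_of_open f (𝓙.comap h) @IsClosedImmersion n _ (hsupp U hU) hP)
  · have hiso : ∀ n, IsIso (pullback.snd f ((𝓙.comap h) ^ (n + 1)).subschemeι) :=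
      fun n => ((hlev (MorphismProperty.isomorphisms _) n).mp (hn n) :)
    obtain ⟨W, hW, hP⟩ := (exists_open_of_levels f (𝓙.comap h)
      fun n => by have := hiso n; infer_instance).2 hiso
    obtain ⟨U, hU, hUW⟩ := exists_base_open h 𝓙 W hW
    exact ⟨U, hU, (restrict_of_le f (MorphismProperty.isomorphisms _) hUW hP :)⟩
  · rintro ⟨U, hU, hP⟩ n
    exact (hlev (MorphismProperty.isomorphisms _) n).mpr
      (level_of_open f (𝓙.comap h) (MorphismProperty.isomorphisms _) n _ (hsupp U hU) hP)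

end Base

end FComplLib
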