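import Groth.Prelude.Def_FSch2
import Groth.Agent.KFlatLib.FPLift
import Groth.Agent.KFlatLib.Stalk
import Groth.Agent.QCohLib.Coherent
import Groth.Agent.DepthLib.RegAB
import Mathlib.LinearAlgebra.TensorProduct.Quotient
import Mathlib.RingTheory.Filtration

/-!
# Morphisms of modules seen on thickenings
-/

set_option autoImplicit false
universe u
open CategoryTheory CategoryTheory.Limits AlgebraicGeometry TensorProduct

namespace FComplLib

section Algebra

variable {R S : Type u} [CommRing R] [CommRing S]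

theorem mem_smul_top_of_tmul_eq_zero [Algebra R S] (hs : Function.Surjective (algebraMap R S))
    {N : Type u} [AddCommGroup N] [Module R N] {n : N} (h : (1 : S) ⊗ₜ[R] n = 0) :
    n ∈ RingHom.ker (algebraMap R S) • (⊤ : Submodule R N) := by
  let e : (R ⧸ RingHom.ker (Algebra.ofId R S)) ≃ₐ[R] S :=
    Ideal.quotientKerAlgEquivOfSurjective (f := Algebra.ofId R S) hs
  have h1 : (1 : R ⧸ RingHom.ker (Algebra.ofId R S)) ⊗ₜ[R] n = 0 := by
    have := congrArg (TensorProduct.map e.symm.toLinearMap LinearMap.id) h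
    rw [TensorProduct.map_tmul, map_zero] at this
    simpa using this
  have h2 := congrArg (TensorProduct.quotTensorEquivQuotSMul N (RingHom.ker (Algebra.ofId R S))) h1
  rw [TensorProduct.quotTensorEquivQuotSMul_mk_one_tmul, map_zero, Submodule.Quotient.mk_eq_zero] at h2
  exact h2

theorem map_eq_zero_mem (π : R →+* S) (hs : Function.Surjective π) {M N : ModuleCat.{u} R}
    (ψ : M ⟶ N) (h : (ModuleCat.extendScalars.{u, u, u} π).map ψ = 0) (m : M) :
    ψ.hom m ∈ RingHom.ker π • (⊤ : Submodule R N) := by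
  letI := π.toAlgebra
  have h1 : (ModuleCat.extendScalars.{u, u, u} π).map ψ ((1 : S) ⊗ₜ[R] m) = 0 := by
    rw [h]; rfl
  exact mem_smul_top_of_tmul_eq_zero (R := R) (S := S) hs h1

theorem map_epi_surjective (π : R →+* S) (hs : Function.Surjective π) [IsLocalRing R]
    (hk : RingHom.ker π ≤ IsLocalRing.maximalIdeal R) {M N : ModuleCat.{u} R} [Module.Finite R N]
    (ψ : M ⟶ N) (h : Epi ((ModuleCat.extendScalars.{u, u, u} π).map ψ)) :
    Epi ψ := by
  letI := π.toAlgebra
  rw [ModuleCat.epi_iff_surjective] at h ⊢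
  rw [← LinearMap.range_eq_top]
  refine top_le_iff.mp (Submodule.le_of_le_smul_of_le_jacobson_bot (I := RingHom.ker π)
    Module.Finite.fg_top (hk.trans (IsLocalRing.jacobson_eq_maximalIdeal ⊥ bot_ne_top).ge) ?_)
  intro n _
  obtain ⟨z, hz⟩ := h ((1 : S) ⊗ₜ[R] n)
  obtain ⟨m, rfl⟩ : ∃ m, (1 : S) ⊗ₜ[R] m = z := by
    clear hz
    induction z using TensorProduct.induction_on with
    | zero => exact ⟨0, TensorProduct.tmul_zero _ _⟩
    | tmul s m =>
      obtain ⟨r, rfl⟩ := hs s
      refine ⟨r • m, ?_⟩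
      rw [TensorProduct.tmul_smul, TensorProduct.smul_tmul', Algebra.smul_def, mul_one]
      rfl
    | add x y hx hy =>
      obtain ⟨a, ha⟩ := hx
      obtain ⟨b, hb⟩ := hy
      exact ⟨a + b, ((TensorProduct.tmul_add _ a b).trans (congrArg₂ (· + ·) ha hb) :)⟩
  have h0 : (1 : S) ⊗ₜ[R] (n - ψ.hom m) = 0 := by
    rw [TensorProduct.tmul_sub, sub_eq_zero]
    exact hz.symm
  rw [← add_sub_cancel (ψ.hom m) n]
  exact Submodule.add_mem_sup ⟨m, rfl⟩ (mem_smul_top_of_tmul_eq_zero (R := R) (S := S) hs h0)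

end Algebra

variable {X : Scheme.{u}}

/-- Kernel of the stalk map of a closed immersion, through an affine chart. -/
theorem ker_stalkMap {Z : Scheme.{u}} (i : Z ⟶ X) [IsClosedImmersion i] (z : Z) (U : X.affineOpens)
    (hzU : i z ∈ U.1) :
    RingHom.ker (i.stalkMap z).hom =
      (i.ker.ideal U).map (X.presheaf.germ U.1 (i z) hzU).hom := by
  have hU : IsAffineOpen U.1 := U.2
  have hV : IsAffineOpen (i ⁻¹ᵁ U.1) := hU.preimage i
  have hs : Function.Surjective (i.app U.1).hom := i.app_surjective U.1 hU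
  let q := hV.primeIdealOf ⟨z, hzU⟩
  let p := hU.primeIdealOf ⟨i z, hzU⟩
  have hpq : q.asIdeal.comap (i.app U.1).hom = p.asIdeal := by
    have := IsAffineOpen.comap_primeIdealOf_appLE (f := i) U.1 hU (i ⁻¹ᵁ U.1) hV le_rfl hzU
    rw [Scheme.Hom.app_eq_appLE]
    exact congr($(this).1)
  letI := X.presheaf.algebra_section_stalk (⟨i z, hzU⟩ : U.1)
  letI := Z.presheaf.algebra_section_stalk (⟨z, hzU⟩ : ↥(i ⁻¹ᵁ U.1))
  haveI : IsLocalization.AtPrime (X.presheaf.stalk (i z)) p.asIdeal := hU.isLocalization_stalk ⟨i z, hzU⟩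
  haveI : IsLocalization.AtPrime (Z.presheaf.stalk z) q.asIdeal := hV.isLocalization_stalk ⟨z, hzU⟩
  have hT : Submonoid.map (i.app U.1).hom p.asIdeal.primeCompl = q.asIdeal.primeCompl := by
    ext b
    constructor
    · rintro ⟨a, ha, rfl⟩
      exact fun hb => ha (hpq ▸ hb)
    · intro hb
      obtain ⟨a, rfl⟩ := hs b
      exact ⟨a, fun ha => hb (show a ∈ q.asIdeal.comap (i.app U.1).hom from hpq ▸ ha), rfl⟩
  have hsm : (i.stalkMap z).hom = IsLocalization.map (Z.presheaf.stalk z) (i.app U.1).hom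
      (M := p.asIdeal.primeCompl) (T := q.asIdeal.primeCompl)
      (show p.asIdeal.primeCompl ≤ q.asIdeal.primeCompl.comap (i.app U.1).hom from
        hT ▸ Submonoid.le_comap_map _) := by
    refine IsLocalization.ringHom_ext p.asIdeal.primeCompl ?_
    rw [IsLocalization.map_comp]
    exact congrArg CommRingCat.Hom.hom (i.germ_stalkMap U.1 z hzU)
  rw [hsm, IsLocalization.ker_map _ _ hT, Scheme.Hom.ker_apply]
  rfl

/-- A morphism killed on every thickening vanishes at the points of the support. -/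
theorem stalk_eq_zero_of_thickenings [IsLocallyNoetherian X] {F G : X.Modules}
    [Coh.IsQCoh G] (hG : CohB1.IsFT G)
    (u : F ⟶ G) (J : X.IdealSheafData)
    (h : ∀ n : ℕ, (Scheme.Modules.pullback (J ^ (n + 1)).subschemeι).map u = 0)
    {x : X} (hx : x ∈ J.support) : (DerSch.stalkFunctor X x).map u = 0 := by
  obtain ⟨U, hUa, hxU⟩ := QCohLib.exists_affine_nhd x
  let U' : X.affineOpens := ⟨U, hUa⟩
  let R := X.presheaf.stalk x
  let 𝔞 : Ideal R := (J.ideal U').map (X.presheaf.germ U x hxU).hom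
  have key : ∀ n, ∃ (Z : Scheme.{u}) (i : Z ⟶ X) (_ : IsClosedImmersion i) (z : Z),
      i z = x ∧ i.ker = J ^ (n + 1) ∧ (Scheme.Modules.pullback i).map u = 0 := fun n => by
    obtain ⟨z, hz⟩ : x ∈ Set.range (J ^ (n + 1)).subschemeι := by
      rw [Scheme.IdealSheafData.range_subschemeι, Scheme.IdealSheafData.support_pow_succ]
      exact hx
    exact ⟨_, _, inferInstance, z, hz, (J ^ (n + 1)).ker_subschemeι, h n⟩
  have hmem : ∀ (n : ℕ) (m : (DerSch.stalkFunctor X x).obj F),
      ((DerSch.stalkFunctor X x).map u).hom m ∈ 𝔞 ^ (n + 1) •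
        (⊤ : Submodule R ((DerSch.stalkFunctor X x).obj G)) := by
    intro n m
    obtain ⟨Z, i, _, z, rfl, hker, hz⟩ := key n
    have h0 : (ModuleCat.extendScalars.{u, u, u} (i.stalkMap z).hom).map
        ((DerSch.stalkFunctor X (i z)).map u) = 0 := by
      have := KFlatLib.stalk_pullback_map i z u
      rw [hz, Functor.map_zero] at this
      rw [eq_comm, ← Category.assoc, Iso.comp_inv_eq, zero_comp] at this
      exact (cancel_epi ((KFlatLib.stalkPullIso i z).app F).hom).mp (this.trans comp_zero.symm)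
    have := map_eq_zero_mem (i.stalkMap z).hom (i.stalkMap_surjective z) _ h0 m
    rw [ker_stalkMap i z U' hxU, hker, Scheme.IdealSheafData.ideal_pow, Pi.pow_apply, Ideal.map_pow] at this
    exact this
  have hproper : 𝔞 ≤ IsLocalRing.maximalIdeal R := by
    obtain ⟨Z, i, _, z, rfl, hker, -⟩ := key 0
    have : RingHom.ker (i.stalkMap z).hom ≤ IsLocalRing.maximalIdeal _ :=
      IsLocalRing.le_maximalIdeal (RingHom.ker_ne_top _)
    rwa [ker_stalkMap i z U' hxU, hker, zero_add, pow_one] at this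
  have : IsNoetherianRing R := by
    haveI := IsLocallyNoetherian.component_noetherian U'
    letI := X.presheaf.algebra_section_stalk (⟨x, hxU⟩ : U)
    haveI : IsLocalization.AtPrime R (hUa.primeIdealOf ⟨x, hxU⟩).asIdeal :=
      hUa.isLocalization_stalk ⟨x, hxU⟩
    exact IsLocalization.isNoetherianRing (hUa.primeIdealOf ⟨x, hxU⟩).asIdeal.primeCompl R inferInstance
  have : Module.Finite R ((DerSch.stalkFunctor X x).obj G) := DepthLib.finite_stalk G hG x
  refine ModuleCat.hom_ext (LinearMap.ext fun m => ?_)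
  have hinf : ((DerSch.stalkFunctor X x).map u).hom m ∈
      (⨅ k : ℕ, 𝔞 ^ k • (⊤ : Submodule R ((DerSch.stalkFunctor X x).obj G))) := by
    rw [Submodule.mem_iInf]
    rintro (_ | k)
    · simp
    · exact hmem k m
  rw [Ideal.iInf_pow_smul_eq_bot_of_le_jacobson _
    (hproper.trans (IsLocalRing.jacobson_eq_maximalIdeal ⊥ bot_ne_top).ge), Submodule.mem_bot] at hinf
  exact hinf

/-- The vanishing locus of a morphism out of a module of finite type is open. -/
theorem exists_open_vanishing {F G : X.Modules} (hF : CohB1.IsFT F) (u : F ⟶ G) {T : Set X}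
    (h : ∀ x ∈ T, (DerSch.stalkFunctor X x).map u = 0) :
    ∃ U : X.Opens, T ⊆ U ∧ ∀ y ∈ U, (DerSch.stalkFunctor X y).map u = 0 := by
  have hI : CohB1.IsFT (Abelian.image u) := QCohLib.isFT_of_epi (Abelian.factorThruImage u) hF
  refine ⟨⟨(CohB1.support (Abelian.image u))ᶜ, (QCohLib.isClosed_support _ hI).isOpen_compl⟩, ?_, ?_⟩
  · intro x hx
    refine not_not.mpr ?_
    have hz : (DerSch.stalkFunctor X x).map (Abelian.image.ι u) = 0 := by
      have e := congrArg (DerSch.stalkFunctor X x).map (Abelian.image.fac u)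
      rw [Functor.map_comp, h x hx] at e
      exact zero_of_epi_comp _ e
    exact ModuleCat.subsingleton_of_isZero (IsZero.of_mono_eq_zero _ hz)
  · intro y hy
    have hs : Subsingleton ((Abelian.image u).presheaf.stalk y) := not_not.mp hy
    have hz : IsZero ((DerSch.stalkFunctor X y).obj (Abelian.image u)) :=
      ModuleCat.isZero_iff_subsingleton.mpr hs
    rw [← Abelian.image.fac u, Functor.map_comp, hz.eq_of_tgt ((DerSch.stalkFunctor X y).map _) 0,
      zero_comp]

theorem eq_zero_of_stalks {F G : X.Modules} (u : F ⟶ G)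
    (h : ∀ y : X, (DerSch.stalkFunctor X y).map u = 0) : u = 0 := by
  have hI : IsZero (Abelian.image u) := by
    rw [KFlatLib.isZero_iff_forall_stalk]
    intro y
    refine IsZero.of_mono_eq_zero ((DerSch.stalkFunctor X y).map (Abelian.image.ι u)) ?_
    have e := congrArg (DerSch.stalkFunctor X y).map (Abelian.image.fac u)
    rw [Functor.map_comp, h y] at e
    exact zero_of_epi_comp _ e
  rw [← Abelian.image.fac u, hI.eq_of_tgt (Abelian.factorThruImage u) 0, zero_comp]

theorem restrict_eq_zero {F G : X.Modules} (u : F ⟶ G) (U : X.Opens)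
    (h : ∀ y ∈ U, (DerSch.stalkFunctor X y).map u = 0) :
    (Scheme.Modules.restrictFunctor U.ι).map u = 0 := by
  rw [← cancel_epi ((Scheme.Modules.restrictFunctorIsoPullback U.ι).inv.app F), ← NatTrans.naturality,
    comp_zero]
  suffices (Scheme.Modules.pullback U.ι).map u = 0 by rw [this, zero_comp]
  refine eq_zero_of_stalks _ fun z => ?_
  have := KFlatLib.stalk_pullback_map U.ι z u
  rw [h (U.ι z) z.2, Functor.map_zero, zero_comp, comp_zero] at this
  exact this

theorem exists_open_restrict_eq_zero [IsLocallyNoetherian X] {F G : X.Modules}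
    [Coh.IsQCoh G] (hF : CohB1.IsFT F) (hG : CohB1.IsFT G)
    (u : F ⟶ G) (J : X.IdealSheafData)
    (h : ∀ n : ℕ, (Scheme.Modules.pullback (J ^ (n + 1)).subschemeι).map u = 0) :
    ∃ U : X.Opens, (J.support : Set X) ⊆ U ∧ (Scheme.Modules.restrictFunctor U.ι).map u = 0 := by
  obtain ⟨U, hU, hu⟩ := exists_open_vanishing hF u fun x hx => stalk_eq_zero_of_thickenings hG u J h hx
  exact ⟨U, hU, restrict_eq_zero u U hu⟩

theorem epi_of_stalks {F G : X.Modules} (u : F ⟶ G)
    (h : ∀ x, Epi ((DerSch.stalkFunctor X x).map u)) : Epi u := by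
  rw [Preadditive.epi_iff_isZero_cokernel, KFlatLib.isZero_iff_forall_stalk]
  intro x
  have := h x
  exact (isZero_cokernel_of_epi _).of_iso (PreservesCokernel.iso (DerSch.stalkFunctor X x) u)

theorem epi_iff_epi_pullback {X₀ : Scheme.{u}} (i : X₀ ⟶ X) [IsClosedImmersion i] [Surjective i]
    {F G : X.Modules} [Coh.IsQCoh G] (hG : CohB1.IsFT G) (u : F ⟶ G) :
    Epi u ↔ Epi ((Scheme.Modules.pullback i).map u) := by
  constructor
  · intro h
    haveI : (Scheme.Modules.pullback i).IsLeftAdjoint :=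
      ⟨_, ⟨Scheme.Modules.pullbackPushforwardAdjunction i⟩⟩
    infer_instance
  · intro h
    refine epi_of_stalks u fun x => ?_
    obtain ⟨z, rfl⟩ := i.surjective x
    have : Epi ((DerSch.stalkFunctor X₀ z).map ((Scheme.Modules.pullback i).map u)) := inferInstance
    rw [KFlatLib.stalk_pullback_map] at this
    have h2 : Epi ((ModuleCat.extendScalars.{u, u, u} (i.stalkMap z).hom).map
        ((DerSch.stalkFunctor X (i z)).map u)) := by
      have e1 := @epi_of_epi _ _ _ _ _ _ _ this
      exact (epi_comp_iff_of_isIso _ _).mp e1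
    have : Module.Finite (X.presheaf.stalk (i z)) ((DerSch.stalkFunctor X (i z)).obj G) :=
      DepthLib.finite_stalk G hG (i z)
    exact map_epi_surjective (i.stalkMap z).hom (i.stalkMap_surjective z)
      (IsLocalRing.le_maximalIdeal (RingHom.ker_ne_top _)) _ h2

theorem stalk_restrict_mono_epi {F G : X.Modules} (u : F ⟶ G) (U : X.Opens) (z : (U : Scheme.{u})) :
    (Mono ((DerSch.stalkFunctor X (U.ι z)).map u) →
      Mono ((DerSch.stalkFunctor _ z).map ((Scheme.Modules.restrictFunctor U.ι).map u))) ∧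
    (Epi ((DerSch.stalkFunctor X (U.ι z)).map u) →
      Epi ((DerSch.stalkFunctor _ z).map ((Scheme.Modules.restrictFunctor U.ι).map u))) := by
  have e : (Scheme.Modules.restrictFunctor U.ι).map u =
      (Scheme.Modules.restrictFunctorIsoPullback U.ι).hom.app F ≫ (Scheme.Modules.pullback U.ι).map u ≫
        (Scheme.Modules.restrictFunctorIsoPullback U.ι).inv.app G := by
    rw [← Category.assoc, ← NatTrans.naturality, Category.assoc, Iso.hom_inv_id_app, Category.comp_id]
  let π := (U.ι.stalkMap z).hom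
  have : IsIso (U.ι.stalkMap z) := inferInstance
  letI := π.toAlgebra
  have hbij : Function.Bijective π := ConcreteCategory.bijective_of_isIso (U.ι.stalkMap z)
  rw [e, Functor.map_comp, Functor.map_comp, KFlatLib.stalk_pullback_map]
  constructor
  · intro h
    have : Mono ((ModuleCat.extendScalars.{u, u, u} π).map ((DerSch.stalkFunctor X (U.ι z)).map u)) := by
      rw [ModuleCat.mono_iff_injective] at h ⊢
      haveI : Module.Flat (X.presheaf.stalk (U.ι z)) ((U : Scheme.{u}).presheaf.stalk z) :=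
        RingHom.Flat.of_bijective (f := π) hbij
      exact Module.Flat.lTensor_preserves_injective_linearMap _ h
    infer_instance
  · intro h
    haveI : (ModuleCat.extendScalars.{u, u, u} π).IsLeftAdjoint :=
      ⟨_, ⟨ModuleCat.extendRestrictScalarsAdj π⟩⟩
    have : Epi ((ModuleCat.extendScalars.{u, u, u} π).map ((DerSch.stalkFunctor X (U.ι z)).map u)) :=
      inferInstance
    infer_instance

theorem mono_of_stalks {F G : X.Modules} (u : F ⟶ G)
    (h : ∀ x, Mono ((DerSch.stalkFunctor X x).map u)) : Mono u := by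
  rw [Preadditive.mono_iff_isZero_kernel, KFlatLib.isZero_iff_forall_stalk]
  intro x
  have := h x
  exact (isZero_kernel_of_mono _).of_iso (PreservesKernel.iso (DerSch.stalkFunctor X x) u)

theorem exists_open_restrict_mono [IsLocallyNoetherian X] {F G : X.Modules}
    (hF : Coh.IsCoh F) [Coh.IsQCoh G] (u : F ⟶ G) (J : X.IdealSheafData)
    (h : ∀ n : ℕ, (Scheme.Modules.pullback (J ^ (n + 1)).subschemeι).map (kernel.ι u) = 0) :
    ∃ U : X.Opens, (J.support : Set X) ⊆ U ∧ Mono ((Scheme.Modules.restrictFunctor U.ι).map u) := by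
  have : Coh.IsQCoh F := hF.1
  have hK : Coh.IsCoh (kernel u) := QCohLib.isCoh_kernel u hF inferInstance
  obtain ⟨U, hU, hu⟩ := exists_open_vanishing hK.2 (kernel.ι u)
    fun x hx => stalk_eq_zero_of_thickenings hF.2 (kernel.ι u) J h hx
  refine ⟨U, hU, mono_of_stalks _ fun z => (stalk_restrict_mono_epi u U z).1 ?_⟩
  let St := DerSch.stalkFunctor X (U.ι z)
  rw [Preadditive.mono_iff_isZero_kernel]
  refine IsZero.of_iso ?_ (PreservesKernel.iso St u).symm
  exact IsZero.of_mono_eq_zero _ (hu (U.ι z) z.2)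

theorem exists_open_restrict_epi [IsLocallyNoetherian X] {F G : X.Modules}
    (hG : Coh.IsCoh G) [Coh.IsQCoh F] (u : F ⟶ G) (J : X.IdealSheafData)
    (h : ∀ n : ℕ, (Scheme.Modules.pullback (J ^ (n + 1)).subschemeι).map (cokernel.π u) = 0) :
    ∃ U : X.Opens, (J.support : Set X) ⊆ U ∧ Epi ((Scheme.Modules.restrictFunctor U.ι).map u) := by
  have hC : Coh.IsCoh (cokernel u) := QCohLib.isCoh_cokernel u inferInstance hG
  have : Coh.IsQCoh (cokernel u) := hC.1
  obtain ⟨U, hU, hu⟩ := exists_open_vanishing hG.2 (cokernel.π u)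
    fun x hx => stalk_eq_zero_of_thickenings hC.2 (cokernel.π u) J h hx
  refine ⟨U, hU, epi_of_stalks _ fun z => (stalk_restrict_mono_epi u U z).2 ?_⟩
  let St := DerSch.stalkFunctor X (U.ι z)
  rw [Preadditive.epi_iff_isZero_cokernel]
  refine IsZero.of_iso ?_ (PreservesCokernel.iso St u).symm
  exact IsZero.of_epi_eq_zero _ (hu (U.ι z) z.2)

end FComplLib
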