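import Groth.Agent.FComplLib.Basic
import Mathlib.RingTheory.AdicCompletion.Noetherian
import Mathlib.RingTheory.AdicCompletion.RingHom
import Mathlib.AlgebraicGeometry.Noetherian

/-!
# Formal spectra
-/

set_option autoImplicit false
universe u
open CategoryTheory CategoryTheory.Limits AlgebraicGeometry FSch

namespace FComplLib

variable {A B : Type u} [CommRing A] [CommRing B]

theorem ker_specMap (φ : B →+* A) :
    (Spec.map (CommRingCat.ofHom φ)).ker = BlowUpLib.specIdeal (RingHom.ker φ) := by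
  refine Scheme.IdealSheafData.ext_of_isAffine ?_
  rw [BlowUpLib.specIdeal_top, Scheme.Hom.ker_apply]
  have hb := ConcreteCategory.bijective_of_isIso (Scheme.ΓSpecIso (CommRingCat.of A)).inv
  have hnat := Scheme.ΓSpecIso_inv_naturality (CommRingCat.ofHom φ)
  ext x
  obtain ⟨y, rfl⟩ := (ConcreteCategory.bijective_of_isIso (Scheme.ΓSpecIso (CommRingCat.of B)).inv).2 x
  have h1 := ConcreteCategory.congr_hom hnat y
  rw [RingHom.mem_ker, Ideal.mem_map_iff_of_surjective _
    (ConcreteCategory.bijective_of_isIso (Scheme.ΓSpecIso (CommRingCat.of B)).inv).2]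
  constructor
  · intro h
    exact ⟨y, hb.1 ((h1.trans h).trans (map_zero _).symm), rfl⟩
  · rintro ⟨z, hz, hzy⟩
    obtain rfl := (ConcreteCategory.bijective_of_isIso (Scheme.ΓSpecIso (CommRingCat.of B)).inv).1 hzy
    refine h1.symm.trans ?_
    change (Scheme.ΓSpecIso (CommRingCat.of A)).inv (φ z) = 0
    rw [RingHom.mem_ker.mp hz, map_zero]

theorem idealSpec_eq (J : Ideal A) : idealSpec A J = BlowUpLib.specIdeal J := by
  rw [idealSpec, ker_specMap, Ideal.mk_ker]

theorem comap_idealSpec (φ : B →+* A) (𝔟 : Ideal B) :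
    (idealSpec B 𝔟).comap (Spec.map (CommRingCat.ofHom φ)) = idealSpec A (𝔟.map φ) := by
  rw [idealSpec_eq, idealSpec_eq, BlowUpLib.comap_specIdeal]

theorem specIdeal_mul (I J : Ideal A) :
    BlowUpLib.specIdeal (I * J) = BlowUpLib.specIdeal I * BlowUpLib.specIdeal J := by
  refine Scheme.IdealSheafData.ext_of_isAffine ?_
  rw [BlowUpLib.specIdeal_top, Scheme.IdealSheafData.ideal_mul, Pi.mul_apply,
    BlowUpLib.specIdeal_top, BlowUpLib.specIdeal_top, Ideal.map_mul]

theorem specIdeal_pow (I : Ideal A) : ∀ n : ℕ,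
    BlowUpLib.specIdeal (I ^ (n + 1)) = BlowUpLib.specIdeal I ^ (n + 1)
  | 0 => by simp
  | n + 1 => by rw [pow_succ, specIdeal_mul, specIdeal_pow I n, ← pow_succ]

/-- The quotient `A ⧸ I^(n+1) → A ⧸ I^(m+1)`. -/
noncomputable def qmap (I : Ideal A) {m n : ℕ} (h : m ≤ n) : A ⧸ I ^ (n + 1) →+* A ⧸ I ^ (m + 1) :=
  Ideal.Quotient.factor (Ideal.pow_le_pow_right (by omega))

theorem spf_ι (I : Ideal A) (n : ℕ) :
    (spf A I).ι n = Spec.map (CommRingCat.ofHom (qmap I (Nat.le_succ n))) := rfl

theorem spf_toX (I : Ideal A) : ∀ n,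
    (spf A I).toX n = Spec.map (CommRingCat.ofHom (qmap I (Nat.zero_le n)))
  | 0 => by
      change 𝟙 _ = _
      have e : qmap I (Nat.zero_le 0) = RingHom.id _ := by
        apply Ideal.Quotient.ringHom_ext; ext; rfl
      rw [e]
      exact (Spec.map_id _).symm
  | n + 1 => by
      change (spf A I).toX n ≫ _ = _
      rw [spf_toX I n, spf_ι]
      erw [← Spec.map_comp, ← CommRingCat.ofHom_comp]
      congr 2
      apply Ideal.Quotient.ringHom_ext; ext; rfl

theorem spf_isFormal (I : Ideal A) : (spf A I).IsFormal := fun n => by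
  rw [spf_ι]
  constructor
  · exact IsClosedImmersion.spec_of_surjective _
      (Ideal.Quotient.factor_surjective (Ideal.pow_le_pow_right (by omega)))
  · intro p
    have hnil : RingHom.ker (qmap I (Nat.le_succ n)) ≤ p.asIdeal := by
      intro x hx
      obtain ⟨a, rfl⟩ := Ideal.Quotient.mk_surjective x
      have ha : a ∈ I ^ (n + 1) := by
        rwa [RingHom.mem_ker, qmap, Ideal.Quotient.factor_mk, Ideal.Quotient.eq_zero_iff_mem] at hx
      refine p.2.mem_of_pow_mem 2 ?_
      have h0 : (Ideal.Quotient.mk (I ^ (n + 1 + 1)) a) ^ 2 = 0 := by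
        rw [← map_pow, Ideal.Quotient.eq_zero_iff_mem]
        refine Ideal.pow_le_pow_right (show n + 1 + 1 ≤ (n + 1) * 2 by omega) ?_
        rw [pow_mul]
        exact Ideal.pow_mem_pow ha 2
      rw [h0]; exact Ideal.zero_mem _
    obtain ⟨q, hq⟩ := (range_comap_of_surjective _ (qmap I (Nat.le_succ n))
      (Ideal.Quotient.factor_surjective (Ideal.pow_le_pow_right (by omega)))).ge hnil
    exact ⟨q, hq⟩

theorem ker_qmap (I : Ideal A) {m n : ℕ} (h : m ≤ n) :
    RingHom.ker (qmap I h) = (I ^ (m + 1)).map (Ideal.Quotient.mk (I ^ (n + 1))) :=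
  Ideal.Quotient.factor_ker _

theorem spf_isAdic (I : Ideal A) : (spf A I).IsAdic := fun n => by
  rw [spf_ι, spf_toX]
  erw [ker_specMap, ker_specMap]
  erw [← specIdeal_pow, ker_qmap, ker_qmap, ← Ideal.map_pow]
  simp

theorem spf_isLocNoethFormal (A : Type u) [CommRing A] [IsNoetherianRing A] (J : Ideal A) :
    (spf A J).IsLocNoethFormal :=
  ⟨spf_isFormal J, spf_isAdic J, fun n => by
    change IsLocallyNoetherian (Spec (CommRingCat.of (A ⧸ J ^ (n + 1))))
    infer_instance⟩

theorem spfMap_bijective (I : Ideal A) (K : Ideal B) [IsAdicComplete I A] :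
    Function.Bijective (fun φ : {φ : B →+* A // K ≤ I.comap φ} ↦ spfMap I K φ.1 φ.2) := by
  constructor
  · intro φ ψ h
    have hn : ∀ n, quotPowMap I K φ.1 φ.2 n = quotPowMap I K ψ.1 ψ.2 n := fun n => by
      have := congrFun (congrArg FSch.Hom.app h) n
      simp only [spfMap_app] at this
      exact congrArg CommRingCat.Hom.hom (Spec.map_injective this)
    refine Subtype.ext (RingHom.ext fun b => ?_)
    refine IsHausdorff.eq_iff_smodEq (I := I) |>.mpr fun n => ?_
    rw [SModEq.sub_mem, smul_eq_mul, Ideal.mul_top]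
    have := RingHom.congr_fun (hn n) (Ideal.Quotient.mk _ b)
    rw [quotPowMap, quotPowMap, Ideal.quotientMap_mk, Ideal.quotientMap_mk, Ideal.Quotient.eq] at this
    exact Ideal.pow_le_pow_right (Nat.le_succ n) this
  · intro f
    let g : ∀ n, B ⧸ K ^ (n + 1) →+* A ⧸ I ^ (n + 1) :=
      fun n => (Spec.preimage ((f : FSch.Hom (spf A I) (spf B K)).app n)).hom
    have hg : ∀ n, (f : FSch.Hom (spf A I) (spf B K)).app n = Spec.map (CommRingCat.ofHom (g n)) :=
      fun n => (Spec.map_preimage _).symm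
    have hcomm : ∀ n, (qmap I (Nat.le_succ n)).comp (g (n + 1)) =
        (g n).comp (qmap K (Nat.le_succ n)) := fun n => by
      have h := (f : FSch.Hom (spf A I) (spf B K)).comm n
      rw [hg, hg, spf_ι, spf_ι] at h
      erw [← Spec.map_comp, ← Spec.map_comp] at h
      have h' := congrArg CommRingCat.Hom.hom (Spec.map_injective h)
      simpa using h'.symm
    let a : ∀ n, B →+* A ⧸ I ^ n := fun n =>
      (Ideal.Quotient.factor (Ideal.pow_le_pow_right (Nat.le_succ n))).comp
        ((g n).comp (Ideal.Quotient.mk (K ^ (n + 1))))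
    have hstep : ∀ n b, qmap I (Nat.le_succ n) (g (n + 1) (Ideal.Quotient.mk _ b)) =
        g n (Ideal.Quotient.mk _ b) := fun n b => RingHom.congr_fun (hcomm n) (Ideal.Quotient.mk _ b)
    have hall : ∀ {m n} (h : m ≤ n) b, qmap I h (g n (Ideal.Quotient.mk _ b)) =
        g m (Ideal.Quotient.mk _ b) := by
      intro m n h b
      induction h with
      | refl =>
        obtain ⟨x, hx⟩ := Ideal.Quotient.mk_surjective (g m (Ideal.Quotient.mk _ b))
        rw [← hx]; rfl
      | @step n hmn ih =>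
        rw [← ih, ← hstep n b]
        obtain ⟨x, hx⟩ := Ideal.Quotient.mk_surjective (g (n + 1) (Ideal.Quotient.mk _ b))
        rw [← hx]; rfl
    have ha : ∀ {m n : ℕ} (h : m ≤ n), (Ideal.Quotient.factorPow I h).comp (a n) = a m := by
      intro m n h
      ext b
      simp only [a, RingHom.comp_apply]
      rw [← hall h b]
      obtain ⟨x, hx⟩ := Ideal.Quotient.mk_surjective (g n (Ideal.Quotient.mk _ b))
      rw [← hx]; rfl
    let φ : B →+* A := IsAdicComplete.liftRingHom I a ha
    have hφ : ∀ n b, g n (Ideal.Quotient.mk _ b) = Ideal.Quotient.mk (I ^ (n + 1)) (φ b) := by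
      intro n b
      have h1 : Ideal.Quotient.mk (I ^ (n + 1)) (φ b) = a (n + 1) b :=
        IsAdicComplete.mk_liftRingHom I a ha (n + 1) b
      rw [h1, ← hstep n b]
      rfl
    refine ⟨⟨φ, fun b hb => ?_⟩, ?_⟩
    · have h0 : g 0 (Ideal.Quotient.mk _ b) = 0 := by
        rw [Ideal.Quotient.eq_zero_iff_mem.mpr (by simpa using hb), map_zero]
      rw [hφ, Ideal.Quotient.eq_zero_iff_mem] at h0
      simpa using h0
    · refine FSch.Hom.ext (funext fun n => ?_)
      rw [spfMap_app, hg]
      congr 2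
      apply Ideal.Quotient.ringHom_ext
      ext b
      exact (hφ n b).symm

theorem isAdicHom_spfMap_iff [IsNoetherianRing A] (I : Ideal A) (K : Ideal B)
    [IsAdicComplete I A] (φ : B →+* A) (h : K ≤ I.comap φ) :
    IsAdicHom (spfMap I K φ h) ↔ K.map φ = I := by
  have key : ∀ n, ((spf B K).ι n).ker.comap ((spfMap I K φ h : FSch.Hom _ _).app (n + 1)) =
      BlowUpLib.specIdeal (((K.map φ) ^ (n + 1)).map (Ideal.Quotient.mk (I ^ (n + 1 + 1)))) := by
    intro n
    rw [spf_ι, spfMap_app]
    erw [ker_specMap, BlowUpLib.comap_specIdeal]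
    rw [ker_qmap, Ideal.map_map, ← Ideal.map_pow, Ideal.map_map]
    rfl
  have hcl : ∀ (C : Type u) [CommRing C] (J : Ideal C) (n : ℕ),
      IsClosedImmersion ((spf C J).ι n) := fun C _ J n => (spf_isFormal J n).1
  constructor
  · intro had
    have h0 : ((spf B K).ι 0).ker.comap ((spfMap I K φ h : FSch.Hom _ _).app 1) =
        ((spf A I).ι 0).ker := by
      have := hcl B K 0
      have hp := (had 0).flip
      rw [← Scheme.IdealSheafData.ker_fst_of_isClosedImmersion,
        ← hp.flip.isoPullback_hom_fst, Scheme.Hom.ker_comp_of_isIso]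
    rw [key, spf_ι] at h0
    erw [ker_specMap] at h0
    have h1 := BlowUpLib.specIdeal_injective h0
    rw [ker_qmap] at h1
    have h2 := congrArg (Ideal.comap (Ideal.Quotient.mk (I ^ (0 + 1 + 1)))) h1
    rw [Ideal.comap_map_of_surjective _ Ideal.Quotient.mk_surjective,
      Ideal.comap_map_of_surjective _ Ideal.Quotient.mk_surjective] at h2
    simp only [← RingHom.ker_eq_comap_bot, Ideal.mk_ker, zero_add, pow_one] at h2
    have hKI : K.map φ ≤ I := Ideal.map_le_iff_le_comap.mpr h
    refine le_antisymm hKI ?_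
    refine Submodule.le_of_le_smul_of_le_jacobson_bot (I := I) (IsNoetherian.noetherian I)
      (IsAdicComplete.le_jacobson_bot I) ?_
    have h3 : I ≤ K.map φ ⊔ I ^ (1 + 1) := h2.symm ▸ le_sup_left
    refine h3.trans (le_of_eq ?_)
    rw [smul_eq_mul, pow_succ, pow_one]
  · intro hK n
    have := hcl A I n
    have := hcl B K n
    refine isPullback_of_isClosedImmersion _ _ _ _ ((spfMap I K φ h : FSch.Hom _ _).comm n).symm ?_
    rw [key, hK, spf_ι]
    erw [ker_specMap]
    rw [ker_qmap]

end FComplLib
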