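import Groth.Agent.FComplLib.Basic
import Mathlib.AlgebraicGeometry.Noetherian
import Mathlib.AlgebraicGeometry.Morphisms.FiniteType

/-!
# Completions along closed subschemes
-/

set_option autoImplicit false
universe u
open CategoryTheory CategoryTheory.Limits AlgebraicGeometry FSch

namespace FComplLib

variable {X Y : Scheme.{u}}

instance isClosedImmersion_completionToX (X : Scheme.{u}) (𝓘 : X.IdealSheafData) (n : ℕ) :
    IsClosedImmersion (completionToX X 𝓘 n) :=
  inferInstanceAs (IsClosedImmersion (𝓘 ^ (n + 1)).subschemeι)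

theorem completionMap_app_ι (f : X ⟶ Y) (𝓘 : X.IdealSheafData) (𝓚 : Y.IdealSheafData)
    (h : PowCompat f 𝓘 𝓚) (n : ℕ) :
    (completionMap f 𝓘 𝓚 h : FSch.Hom _ _).app n ≫ completionToX Y 𝓚 n = completionToX X 𝓘 n ≫ f :=
  Scheme.IdealSheafData.subschemeMap_subschemeι (𝓘 ^ (n + 1)) (𝓚 ^ (n + 1)) f
    (Scheme.IdealSheafData.le_map_iff_comap_le.mpr (h n))

theorem powCompat_comap (f : X ⟶ Y) (𝓚 : Y.IdealSheafData) : PowCompat f (𝓚.comap f) 𝓚 :=
  fun n => (comap_pow_succ f 𝓚 n).le

theorem completion_level_isPullback (f : X ⟶ Y) (𝓚 : Y.IdealSheafData)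
    (h : PowCompat f (𝓚.comap f) 𝓚) (n : ℕ) :
    IsPullback (completionToX X (𝓚.comap f) n)
      ((completionMap f (𝓚.comap f) 𝓚 h : FSch.Hom _ _).app n) f (completionToX Y 𝓚 n) := by
  refine isPullback_of_isClosedImmersion _ _ _ _ (completionMap_app_ι f _ 𝓚 h n).symm ?_
  erw [Scheme.IdealSheafData.ker_subschemeι, Scheme.IdealSheafData.ker_subschemeι, comap_pow_succ]

theorem completion_isAdicHom (f : X ⟶ Y) (𝓚 : Y.IdealSheafData)
    (h : PowCompat f (𝓚.comap f) 𝓚) :
    IsAdicHom (completionMap f (𝓚.comap f) 𝓚 h) := fun n => by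
  refine IsPullback.of_right ?_ ((completionMap f (𝓚.comap f) 𝓚 h : FSch.Hom _ _).comm n).symm
    (completion_level_isPullback f 𝓚 h (n + 1))
  have e1 : (completionAlong X (𝓚.comap f)).ι n ≫ completionToX X (𝓚.comap f) (n + 1) =
      completionToX X (𝓚.comap f) n := Scheme.IdealSheafData.inclusion_subschemeι _
  have e2 : (completionAlong Y 𝓚).ι n ≫ completionToX Y 𝓚 (n + 1) = completionToX Y 𝓚 n :=
    Scheme.IdealSheafData.inclusion_subschemeι _
  rw [e1, e2]
  exact completion_level_isPullback f 𝓚 h n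

theorem toX_completionAlong (X : Scheme.{u}) (𝓘 : X.IdealSheafData) :
    ∀ n, (completionAlong X 𝓘).toX n ≫ completionToX X 𝓘 n = completionToX X 𝓘 0
  | 0 => by
      change 𝟙 _ ≫ _ = _
      exact Category.id_comp _
  | n + 1 => by
      change ((completionAlong X 𝓘).toX n ≫ (completionAlong X 𝓘).ι n) ≫ _ = _
      have e1 : (completionAlong X 𝓘).ι n ≫ completionToX X 𝓘 (n + 1) = completionToX X 𝓘 n :=
        Scheme.IdealSheafData.inclusion_subschemeι _
      rw [Category.assoc, e1, toX_completionAlong X 𝓘 n]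

theorem completionAlong_isFormal (X : Scheme.{u}) (𝓘 : X.IdealSheafData) :
    (completionAlong X 𝓘).IsFormal := fun n => by
  constructor
  · change IsClosedImmersion (Scheme.IdealSheafData.inclusion _)
    infer_instance
  · intro y
    have hy : (𝓘 ^ (n + 2)).subschemeι y ∈ Set.range (𝓘 ^ (n + 1)).subschemeι := by
      rw [Scheme.IdealSheafData.range_subschemeι, Scheme.IdealSheafData.support_pow_succ,
        ← Scheme.IdealSheafData.support_pow_succ 𝓘 (n + 1), ← Scheme.IdealSheafData.range_subschemeι]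
      exact Set.mem_range_self y
    obtain ⟨x, hx⟩ := hy
    refine ⟨x, (𝓘 ^ (n + 2)).subschemeι.isEmbedding.injective ?_⟩
    rw [← hx, ← Scheme.IdealSheafData.inclusion_subschemeι (pow_succ_le X 𝓘 n)]
    rfl

theorem completionAlong_isAdic (X : Scheme.{u}) (𝓘 : X.IdealSheafData) :
    (completionAlong X 𝓘).IsAdic := fun n => by
  have h0 : ((completionAlong X 𝓘).toX (n + 1)).ker = 𝓘.comap (completionToX X 𝓘 (n + 1)) := by
    have hle : 𝓘 ^ (n + 2) ≤ 𝓘 ^ (0 + 1) := pow_le_pow_of_le_one bot_le le_top (by omega)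
    have e : (completionAlong X 𝓘).toX (n + 1) = Scheme.IdealSheafData.inclusion hle := by
      refine (cancel_mono (completionToX X 𝓘 (n + 1))).mp ?_
      exact (toX_completionAlong X 𝓘 (n + 1)).trans
        (Scheme.IdealSheafData.inclusion_subschemeι hle).symm
    rw [e]
    refine (ker_inclusion hle).trans ?_
    simp
    rfl
  change (Scheme.IdealSheafData.inclusion _).ker = _
  rw [ker_inclusion, h0, ← comap_pow_succ]
  rfl

theorem completionAlong_isLocNoethFormal (X : Scheme.{u}) [IsLocallyNoetherian X]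
    (𝓘 : X.IdealSheafData) : (completionAlong X 𝓘).IsLocNoethFormal :=
  ⟨completionAlong_isFormal X 𝓘, completionAlong_isAdic X 𝓘,
    fun n => LocallyOfFiniteType.isLocallyNoetherian (completionToX X 𝓘 n)⟩

/-- Completions of cartesian squares, when one leg is adic. -/
theorem completion_isPullback {X Y S : Scheme.{u}} (g : X ⟶ S) (h : Y ⟶ S)
    (𝓡 : X.IdealSheafData) (𝓙 : S.IdealSheafData)
    (hg : FSch.PowCompat g 𝓡 𝓙) (hh : FSch.PowCompat h (𝓙.comap h) 𝓙)
    (hp : FSch.PowCompat (pullback.fst g h) (𝓡.comap (pullback.fst g h)) 𝓡)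
    (hq : FSch.PowCompat (pullback.snd g h) (𝓡.comap (pullback.fst g h)) (𝓙.comap h)) :
    IsPullback (FSch.completionMap (pullback.fst g h) (𝓡.comap (pullback.fst g h)) 𝓡 hp)
      (FSch.completionMap (pullback.snd g h) (𝓡.comap (pullback.fst g h)) (𝓙.comap h) hq)
      (FSch.completionMap g 𝓡 𝓙 hg) (FSch.completionMap h (𝓙.comap h) 𝓙 hh) := by
  refine sys_isPullback_of_app fun n => ?_
  have hA := (completion_level_isPullback (pullback.fst g h) 𝓡 hp n).flip
  have hbig := hA.paste_vert (IsPullback.of_hasPullback g h)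
  rw [← completionMap_app_ι (pullback.snd g h) _ _ hq n, ← completionMap_app_ι g 𝓡 𝓙 hg n] at hbig
  refine IsPullback.of_bot hbig ?_ (completion_level_isPullback h 𝓙 hh n).flip
  rw [← cancel_mono (completionToX S 𝓙 n), Category.assoc, Category.assoc,
    completionMap_app_ι, completionMap_app_ι, ← Category.assoc, completionMap_app_ι,
    Category.assoc, pullback.condition, ← Category.assoc, ← Category.assoc, completionMap_app_ι]

end FComplLib
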