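import Groth.Prelude.Def_FSch3
import Groth.Agent.S3861
import Groth.Agent.BlowUpLib.Cartier

/-!
# Formal schemes as systems of thickenings: pullbacks, completions, formal spectra
-/

set_option autoImplicit false
universe u
open CategoryTheory CategoryTheory.Limits AlgebraicGeometry FSch

namespace FComplLib

theorem sys_isPullback_of_app {P X Y S : Sys.{u}} {a : P ⟶ X} {b : P ⟶ Y} {f : X ⟶ S} {g : Y ⟶ S}
    (h : ∀ n, IsPullback ((a : Hom P X).app n) ((b : Hom P Y).app n) ((f : Hom X S).app n)
      ((g : Hom Y S).app n)) : IsPullback a b f g := by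
  have w : a ≫ f = b ≫ g := Hom.ext (funext fun n => (h n).w)
  refine IsPullback.of_isLimit' ⟨w⟩ ?_
  refine PullbackCone.IsLimit.mk w
    (fun s => ⟨fun n => (h n).lift ((s.fst : Hom _ _).app n) ((s.snd : Hom _ _).app n)
      (congrFun (congrArg Hom.app s.condition) n), fun n => ?_⟩) ?_ ?_ ?_
  · refine (h (n + 1)).hom_ext ?_ ?_
    · rw [Category.assoc, Category.assoc, ← (a : Hom P X).comm, IsPullback.lift_fst,
        ← Category.assoc, IsPullback.lift_fst]
      exact (s.fst : Hom _ _).comm n
    · rw [Category.assoc, Category.assoc, ← (b : Hom P Y).comm, IsPullback.lift_snd,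
        ← Category.assoc, IsPullback.lift_snd]
      exact (s.snd : Hom _ _).comm n
  · exact fun s => Hom.ext (funext fun n => (h n).lift_fst _ _ _)
  · exact fun s => Hom.ext (funext fun n => (h n).lift_snd _ _ _)
  · intro s m h1 h2
    refine Hom.ext (funext fun n => (h n).hom_ext ?_ ?_)
    · rw [IsPullback.lift_fst]; exact congrFun (congrArg Hom.app h1) n
    · rw [IsPullback.lift_snd]; exact congrFun (congrArg Hom.app h2) n

/-- `pullbackSys` is the fibre product of systems. -/
theorem isPullback_pullbackSys {X Y S : Sys.{u}} (f : X ⟶ S) (g : Y ⟶ S) :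
    IsPullback (pullbackFst f g) (pullbackSnd f g) f g :=
  sys_isPullback_of_app fun _ => IsPullback.of_hasPullback _ _

theorem comap_pow_succ {X Y : Scheme.{u}} (f : X ⟶ Y) (K : Y.IdealSheafData) (n : ℕ) :
    (K ^ (n + 1)).comap f = (K.comap f) ^ (n + 1) := by
  induction n with
  | zero => simp
  | succ n ih => rw [pow_succ, Groth.Agent.S3861.result, ih, ← pow_succ]

theorem ker_inclusion {X : Scheme.{u}} {I J : X.IdealSheafData} (h : I ≤ J) :
    (Scheme.IdealSheafData.inclusion h).ker = J.comap I.subschemeι := by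
  have hsq : IsPullback (Scheme.IdealSheafData.inclusion h) (𝟙 _) I.subschemeι J.subschemeι := by
    refine IsPullback.of_isLimit' ⟨by simp⟩ (PullbackCone.IsLimit.mk _ (fun s => s.snd) ?_ ?_ ?_)
    · intro s
      rw [← cancel_mono I.subschemeι]
      simpa using s.condition.symm
    · intro s; simp
    · intro s m _ h2; simpa using h2
  rw [← hsq.isoPullback_hom_fst, Scheme.Hom.ker_comp_of_isIso]
  rfl

end FComplLib
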