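import Groth.Agent.FComplLib.Thicken

/-!
# Levels of adic systems of thickenings
-/

set_option autoImplicit false
universe u
open CategoryTheory CategoryTheory.Limits AlgebraicGeometry FSch

namespace FComplLib

variable {𝔛 𝔜 : Sys.{u}}

theorem toX_succ (𝔛 : Sys.{u}) (n : ℕ) : 𝔛.toX (n + 1) = 𝔛.toX n ≫ 𝔛.ι n := rfl

theorem isClosedImmersion_toX (h : 𝔛.IsFormal) : ∀ n, IsClosedImmersion (𝔛.toX n)
  | 0 => inferInstanceAs (IsClosedImmersion (𝟙 _))
  | n + 1 => by
      have := isClosedImmersion_toX h n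
      have := (h n).1
      rw [toX_succ]; infer_instance

theorem surjective_toX (h : 𝔛.IsFormal) : ∀ n, Surjective (𝔛.toX n)
  | 0 => inferInstanceAs (Surjective (𝟙 _))
  | n + 1 => by
      have := surjective_toX h n
      have : Surjective (𝔛.ι n) := ⟨(h n).2⟩
      rw [toX_succ]; infer_instance

theorem toX_isPullback (f : 𝔛 ⟶ 𝔜) (hf : IsAdicHom f) : ∀ n,
    IsPullback (𝔛.toX n) ((f : FSch.Hom 𝔛 𝔜).app 0) ((f : FSch.Hom 𝔛 𝔜).app n) (𝔜.toX n)
  | 0 => by
      have : IsIso (𝔛.toX 0) := inferInstanceAs (IsIso (𝟙 _))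
      have : IsIso (𝔜.toX 0) := inferInstanceAs (IsIso (𝟙 _))
      exact IsPullback.of_horiz_isIso ⟨by change 𝟙 _ ≫ _ = _ ≫ 𝟙 _; rw [Category.id_comp, Category.comp_id]⟩
  | n + 1 => by
      rw [toX_succ, toX_succ]
      exact (toX_isPullback f hf n).paste_horiz (hf n)

theorem isFinite_app (f : 𝔛 ⟶ 𝔜) (h𝔜 : 𝔜.IsLocNoethFormal) (hf : IsAdicHom f)
    [IsFinite ((f : FSch.Hom 𝔛 𝔜).app 0)] (n : ℕ) : IsFinite ((f : FSch.Hom 𝔛 𝔜).app n) := by
  have := h𝔜.2.2 n
  have := isClosedImmersion_toX h𝔜.1 n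
  have := surjective_toX h𝔜.1 n
  exact isFinite_of_thickening (toX_isPullback f hf n)

theorem isClosedImmersion_app (f : 𝔛 ⟶ 𝔜) (h𝔜 : 𝔜.IsLocNoethFormal) (hf : IsAdicHom f)
    [IsClosedImmersion ((f : FSch.Hom 𝔛 𝔜).app 0)] (n : ℕ) :
    IsClosedImmersion ((f : FSch.Hom 𝔛 𝔜).app n) := by
  have := h𝔜.2.2 n
  have := isClosedImmersion_toX h𝔜.1 n
  have := surjective_toX h𝔜.1 n
  exact isClosedImmersion_of_thickening (toX_isPullback f hf n)

theorem isProper_app (f : 𝔛 ⟶ 𝔜) (h𝔜 : 𝔜.IsLocNoethFormal) (hf : IsAdicHom f)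
    [IsProper ((f : FSch.Hom 𝔛 𝔜).app 0)] (n : ℕ) : IsProper ((f : FSch.Hom 𝔛 𝔜).app n) := by
  have := h𝔜.2.2 n
  have := isClosedImmersion_toX h𝔜.1 n
  have := surjective_toX h𝔜.1 n
  exact isProper_of_thickening (toX_isPullback f hf n)

theorem comap_ker_toX (hF : 𝔛.IsFormal) (n : ℕ) :
    (𝔛.toX (n + 1)).ker.comap (𝔛.ι n) = (𝔛.toX n).ker := by
  have := isClosedImmersion_toX hF (n + 1)
  have := (hF n).1
  have sq : IsPullback (𝔛.toX n) (𝟙 _) (𝔛.ι n) (𝔛.toX (n + 1)) := by
    refine IsPullback.of_isLimit' ⟨by simp [toX_succ]⟩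
      (PullbackCone.IsLimit.mk _ (fun s => s.snd) ?_ ?_ ?_)
    · intro s
      rw [← cancel_mono (𝔛.ι n), Category.assoc, ← toX_succ]
      exact s.condition.symm
    · intro s; simp
    · intro s m _ h2; simpa using h2
  exact (ker_of_isPullback sq).symm

theorem ker_toX_pow (hF : 𝔛.IsFormal) (hA : 𝔛.IsAdic) (n : ℕ) :
    (𝔛.toX n).ker ^ (n + 1) = ⊥ := by
  have := (hF n).1
  rw [← comap_ker_toX hF n, ← comap_pow_succ, ← hA n]
  refine le_bot_iff.mp ?_
  rw [← Scheme.IdealSheafData.le_map_iff_comap_le, Scheme.IdealSheafData.map_bot]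

theorem exists_affine {X : Scheme.{u}} (x : X) {W : X.Opens} (hx : x ∈ W) :
    ∃ U : X.affineOpens, x ∈ U.1 ∧ U.1 ≤ W := BlowUpLib.exists_affine x hx

theorem isLocallyNoetherian_level (hF : 𝔛.IsFormal) (hA : 𝔛.IsAdic) [IsLocallyNoetherian (𝔛.X 0)]
    (hft : ∀ x : 𝔛.X 1, ∃ V : (𝔛.X 1).affineOpens, x ∈ V.1 ∧ ((𝔛.ι 0).ker.ideal V).FG) :
    ∀ n, IsLocallyNoetherian (𝔛.X n)
  | 0 => ‹_›
  | n + 1 => by
      have hn := isLocallyNoetherian_level hF hA hft n
      have hcl := (hF n).1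
      have hcov : ∀ x : 𝔛.X (n + 1), ∃ V : (𝔛.X (n + 1)).affineOpens,
          x ∈ V.1 ∧ ((𝔛.ι n).ker.ideal V).FG := by
        rcases Nat.eq_zero_or_pos n with rfl | hpos
        · exact hft
        · intro x
          obtain ⟨V, hxV, -⟩ := exists_affine x (W := ⊤) trivial
          refine ⟨V, hxV, ?_⟩
          set N := (𝔛.toX (n + 1)).ker.ideal V with hN
          have hK : (𝔛.ι n).ker.ideal V = N ^ (n + 1) := by
            rw [hA n, Scheme.IdealSheafData.ideal_pow, Pi.pow_apply]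
          rw [hK]
          refine Ideal.FG.pow (n := n + 1) ?_
          have hnil : N ^ (n + 2) = ⊥ := by
            have := congrArg (fun I : (𝔛.X (n + 1)).IdealSheafData => I.ideal V) (ker_toX_pow hF hA (n + 1))
            simpa [Scheme.IdealSheafData.ideal_pow] using this
          let π := ((𝔛.ι n).app V.1).hom
          have hker : RingHom.ker π = N ^ (n + 1) := by
            rw [← hK, Scheme.Hom.ker_apply]
          have hs : Function.Surjective π := (𝔛.ι n).app_surjective V.1 V.2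
          have := IsLocallyNoetherian.component_noetherian ⟨_, V.2.preimage (𝔛.ι n)⟩
          classical
          obtain ⟨T, hT⟩ := IsNoetherian.noetherian (N.map π)
          let g := Function.surjInv hs
          have hL : N = Ideal.span ((T.image g : Finset _) : Set _) ⊔ N ^ (n + 1) := by
            have e1 : Ideal.comap π (N.map π) = N ⊔ RingHom.ker π := by
              rw [Ideal.comap_map_of_surjective _ hs, ← RingHom.ker_eq_comap_bot]
            have e2 : (Ideal.span ((T.image g : Finset _) : Set _)).map π = N.map π := by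
              rw [Ideal.map_span, Finset.coe_image, Set.image_image]
              have e : (fun x => π (g x)) = id := funext fun x => Function.surjInv_eq hs x
              rw [e, Set.image_id]
              exact hT
            rw [← e2, Ideal.comap_map_of_surjective _ hs, ← RingHom.ker_eq_comap_bot, hker,
              sup_eq_left.mpr (Ideal.pow_le_self (Nat.succ_ne_zero n) : N ^ (n + 1) ≤ N)] at e1
            exact e1.symm
          refine ⟨T.image g, ?_⟩
          refine le_antisymm (le_sup_left.trans hL.ge) ?_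
          have key : ∀ k, N ≤ Ideal.span ((T.image g : Finset _) : Set _) ⊔ N ^ (k + 1) := by
            intro k
            induction k with
            | zero => simp
            | succ k ih =>
              refine ih.trans (sup_le le_sup_left ?_)
              calc N ^ (k + 1) = N ^ k * N := pow_succ _ _
                _ ≤ N ^ k * (Ideal.span ((T.image g : Finset _) : Set _) ⊔ N ^ (n + 1)) :=
                    Ideal.mul_mono_right hL.le
                _ ≤ _ := by
                    rw [Ideal.mul_sup, ← pow_add]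
                    exact sup_le_sup Ideal.mul_le_right (Ideal.pow_le_pow_right (by omega))
          have := key (n + 1)
          rwa [hnil, sup_bot_eq] at this
      choose V hV hfg using hcov
      refine isLocallyNoetherian_of_affine_cover (S := V) ?_ fun x => ?_
      · exact top_le_iff.mp fun x _ => TopologicalSpace.Opens.mem_iSup.mpr ⟨x, hV x⟩
      · have := IsLocallyNoetherian.component_noetherian ⟨_, (V x).2.preimage (𝔛.ι n)⟩
        refine isNoetherianRing_of_thickening ((𝔛.ι n).app (V x).1).hom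
          ((𝔛.ι n).app_surjective _ (V x).2) ?_ ?_
        · rw [← Scheme.Hom.ker_apply, hA n, Scheme.IdealSheafData.ideal_pow, Pi.pow_apply]
          have h0 := congrArg (fun I : (𝔛.X (n + 1)).IdealSheafData => I.ideal (V x))
            (ker_toX_pow hF hA (n + 1))
          simp only [Scheme.IdealSheafData.ideal_pow, Pi.pow_apply] at h0
          refine ⟨2, bot_unique ?_⟩
          rw [← pow_mul, ← Ideal.zero_eq_bot]
          refine (Ideal.pow_le_pow_right (show n + 1 + 1 ≤ (n + 1) * 2 by omega)).trans ?_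
          rw [h0]
          simp
        · rw [← Scheme.Hom.ker_apply]; exact hfg x

theorem isLocNoethFormal_of_isAdicHom (f : 𝔛 ⟶ 𝔜) (h𝔜 : 𝔜.IsLocNoethFormal) (hf : IsAdicHom f)
    [IsLocallyNoetherian (𝔛.X 0)] : 𝔛.IsLocNoethFormal := by
  have hF : 𝔛.IsFormal := fun n => by
    have := (h𝔜.1 n).1
    have : Surjective (𝔜.ι n) := ⟨(h𝔜.1 n).2⟩
    exact ⟨isClosedImmersion_of_isPullback (hf n), (surjective_of_isPullback (hf n)).surj⟩
  have hA : 𝔛.IsAdic := fun n => by
    have := (h𝔜.1 n).1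
    have := isClosedImmersion_toX h𝔜.1 (n + 1)
    rw [ker_of_isPullback (hf n), h𝔜.2.1 n, comap_pow_succ,
      ker_of_isPullback (toX_isPullback f hf (n + 1))]
  refine ⟨hF, hA, isLocallyNoetherian_level hF hA fun x => ?_⟩
  obtain ⟨U, hxU, -⟩ := exists_affine ((f : FSch.Hom 𝔛 𝔜).app 1 x) (W := ⊤) trivial
  obtain ⟨V, hxV, e⟩ := exists_affine x (W := (f : FSch.Hom 𝔛 𝔜).app 1 ⁻¹ᵁ U.1) hxU
  refine ⟨V, hxV, ?_⟩
  have := (h𝔜.1 0).1
  have := h𝔜.2.2 1
  have := IsLocallyNoetherian.component_noetherian U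
  rw [ker_of_isPullback (hf 0), Groth.Agent.S4666.ideal_comap_eq _ _ U V e]
  exact Ideal.FG.map (IsNoetherian.noetherian _) _

theorem pullbackSnd_isAdicHom {𝔖 𝔖' : Sys.{u}} (f : 𝔛 ⟶ 𝔖) (g : 𝔖' ⟶ 𝔖) (hf : IsAdicHom f) :
    IsAdicHom (pullbackSnd f g) := fun n => by
  have h1 := (IsPullback.of_hasPullback ((f : FSch.Hom 𝔛 𝔖).app n) ((g : FSch.Hom 𝔖' 𝔖).app n))
  have h2 := (IsPullback.of_hasPullback ((f : FSch.Hom 𝔛 𝔖).app (n + 1)) ((g : FSch.Hom 𝔖' 𝔖).app (n + 1)))
  have hbig := h1.flip.paste_vert (hf n).flip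
  have e : 𝔖'.ι n ≫ (g : FSch.Hom 𝔖' 𝔖).app (n + 1) = (g : FSch.Hom 𝔖' 𝔖).app n ≫ 𝔖.ι n :=
    ((g : FSch.Hom 𝔖' 𝔖).comm n).symm
  rw [← e, show pullback.fst ((f : FSch.Hom 𝔛 𝔖).app n) ((g : FSch.Hom 𝔖' 𝔖).app n) ≫ 𝔛.ι n =
    (pullbackSys f g).ι n ≫ pullback.fst _ _ from (pullback.lift_fst _ _ _).symm] at hbig
  have := IsPullback.of_bot hbig ((pullbackSnd f g : FSch.Hom _ _).comm n) h2.flip
  exact this.flip

end FComplLib
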