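import Groth.Agent.FComplLib.Levels
import Groth.Agent.CompleteLib.ModuleLimit
import Groth.Agent.CompleteLib.Noetherian
import Groth.Agent.ChevLib.Main

/-!
# Adic systems of thickenings with affine level zero are formal spectra
-/

set_option autoImplicit false
universe u
open CategoryTheory CategoryTheory.Limits AlgebraicGeometry FSch

namespace FComplLib

section Sys

/-- An inverse system of rings with surjective transition maps, adic with respect to the kernels to level zero. -/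
structure RSys : Type (u + 1) where
  A : ℕ → Type u
  [ring : ∀ n, CommRing (A n)]
  f : ∀ n, A (n + 1) →+* A n
  surj : ∀ n, Function.Surjective (f n)

attribute [instance] RSys.ring

namespace RSys

variable (𝔸 : RSys.{u})

/-- The composite to level zero. -/
def toZero : ∀ n, 𝔸.A n →+* 𝔸.A 0
  | 0 => RingHom.id _
  | n + 1 => (toZero n).comp (𝔸.f n)

/-- The limit. -/
def lim : Subring (∀ n, 𝔸.A n) where
  carrier := {y | ∀ n, 𝔸.f n (y (n + 1)) = y n}
  mul_mem' := fun {a b} ha hb n => by simp [map_mul, ha n, hb n]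
  one_mem' := fun n => by simp
  add_mem' := fun {a b} ha hb n => by simp [map_add, ha n, hb n]
  zero_mem' := fun n => by simp
  neg_mem' := fun {a} ha n => by simp [map_neg, ha n]

/-- The projections. -/
def proj (n : ℕ) : 𝔸.lim →+* 𝔸.A n := (Pi.evalRingHom _ n).comp 𝔸.lim.subtype

theorem f_comp_proj (n : ℕ) : (𝔸.f n).comp (𝔸.proj (n + 1)) = 𝔸.proj n :=
  RingHom.ext fun x => x.2 n

theorem proj_surjective : ∀ n, Function.Surjective (𝔸.proj n) := by
  letI : ∀ n, Algebra 𝔸.lim (𝔸.A n) := fun n => (𝔸.proj n).toAlgebra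
  intro n
  refine CompleteLib.limit_π_surjective (A := 𝔸.lim) n (M := 𝔸.A) (fun m =>
      { toFun := 𝔸.f m
        map_add' := map_add _
        map_smul' := fun c x => by
          change 𝔸.f m (𝔸.proj (m + 1) c * x) = 𝔸.proj m c * 𝔸.f m x
          rw [map_mul]
          exact congrArg (· * _) (c.2 m) }) 𝔸.surj (L := 𝔸.lim) (fun m => Algebra.linearMap 𝔸.lim (𝔸.A m)) ?_
  exact fun y hy => ⟨⟨y, hy⟩, fun _ => rfl⟩

theorem toZero_surjective : ∀ n, Function.Surjective (𝔸.toZero n)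
  | 0 => Function.surjective_id
  | n + 1 => (toZero_surjective n).comp (𝔸.surj n)

theorem toZero_comp_proj : ∀ n, (𝔸.toZero n).comp (𝔸.proj n) = 𝔸.proj 0
  | 0 => RingHom.id_comp _
  | n + 1 => by rw [toZero, RingHom.comp_assoc, f_comp_proj, toZero_comp_proj n]

variable (hA : ∀ n, RingHom.ker (𝔸.f n) = (RingHom.ker (𝔸.toZero (n + 1))) ^ (n + 1))

include hA in
theorem map_ker_toZero (n : ℕ) :
    (RingHom.ker (𝔸.toZero (n + 1))).map (𝔸.f n) = RingHom.ker (𝔸.toZero n) := by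
  apply le_antisymm
  · rw [Ideal.map_le_iff_le_comap]
    intro x hx
    exact hx
  · intro x hx
    obtain ⟨y, rfl⟩ := 𝔸.surj n x
    exact Ideal.mem_map_of_mem _ hx

include hA in
theorem ker_pow_succ_eq_bot (n : ℕ) : RingHom.ker (𝔸.toZero n) ^ (n + 1) = ⊥ := by
  rw [← map_ker_toZero 𝔸 hA n, ← Ideal.map_pow, ← hA n, Ideal.map_eq_bot_iff_le_ker]

include hA in
theorem exists_fg_ideal (hfg : (RingHom.ker (𝔸.toZero 1)).FG) :
    ∃ I : Ideal 𝔸.lim, I.FG ∧ ∀ n, I.map (𝔸.proj n) = RingHom.ker (𝔸.toZero n) := by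
  classical
  obtain ⟨T, hT⟩ := hfg
  let g := Function.surjInv (𝔸.proj_surjective 1)
  refine ⟨Ideal.span ((T.image g : Finset _) : Set 𝔸.lim), ⟨_, rfl⟩, ?_⟩
  set I := Ideal.span ((T.image g : Finset _) : Set 𝔸.lim) with hI
  have h1 : I.map (𝔸.proj 1) = RingHom.ker (𝔸.toZero 1) := by
    rw [hI, Ideal.map_span, Finset.coe_image, Set.image_image]
    have e : (fun x => 𝔸.proj 1 (g x)) = id :=
      funext fun x => Function.surjInv_eq (𝔸.proj_surjective 1) x
    rw [e, Set.image_id]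
    exact hT
  have h0 : I.map (𝔸.proj 0) = RingHom.ker (𝔸.toZero 0) := by
    rw [← f_comp_proj, ← Ideal.map_map, h1, map_ker_toZero 𝔸 hA]
  intro n
  rcases n with _ | n
  · exact h0
  induction n with
  | zero => exact h1
  | succ n ih =>
    set N := RingHom.ker (𝔸.toZero (n + 1 + 1)) with hN
    set P := I.map (𝔸.proj (n + 1 + 1)) with hP
    have hf : P.map (𝔸.f (n + 1)) = N.map (𝔸.f (n + 1)) := by
      rw [hP, hN, Ideal.map_map, f_comp_proj, ih, map_ker_toZero 𝔸 hA]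
    have hPN : P ≤ N := by
      rw [hP, Ideal.map_le_iff_le_comap]
      intro x hx
      have : 𝔸.proj 0 x ∈ I.map (𝔸.proj 0) := Ideal.mem_map_of_mem _ hx
      rw [h0, RingHom.mem_ker] at this
      rw [Ideal.mem_comap, hN, RingHom.mem_ker, ← RingHom.comp_apply, toZero_comp_proj]
      exact this
    have hle : N ≤ P ⊔ N ^ (n + 1 + 1) := by
      have := congrArg (Ideal.comap (𝔸.f (n + 1))) hf
      rw [Ideal.comap_map_of_surjective _ (𝔸.surj _), Ideal.comap_map_of_surjective _ (𝔸.surj _),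
        ← RingHom.ker_eq_comap_bot, hA (n + 1)] at this
      exact le_sup_left.trans this.ge
    have key : ∀ k, N ≤ P ⊔ N ^ (k + 1) := by
      intro k
      induction k with
      | zero => exact le_sup_of_le_right (by simp)
      | succ k ihk =>
        refine ihk.trans (sup_le le_sup_left ?_)
        calc N ^ (k + 1) = N ^ k * N := pow_succ _ _
          _ ≤ N ^ k * (P ⊔ N ^ (n + 1 + 1)) := Ideal.mul_mono_right hle
          _ ≤ _ := by
            rw [Ideal.mul_sup, ← pow_add]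
            exact sup_le_sup Ideal.mul_le_right (Ideal.pow_le_pow_right (by omega))
    refine le_antisymm hPN ?_
    have := key (n + 1 + 1)
    rwa [show N ^ (n + 1 + 1 + 1) = ⊥ from ker_pow_succ_eq_bot 𝔸 hA _, sup_bot_eq] at this

include hA in
theorem limit_main [IsNoetherianRing (𝔸.A 0)] (hfg : (RingHom.ker (𝔸.toZero 1)).FG) :
    ∃ I : Ideal 𝔸.lim, IsNoetherianRing 𝔸.lim ∧ IsAdicComplete I 𝔸.lim ∧
      ∀ n, RingHom.ker (𝔸.proj n) = I ^ (n + 1) := by
  obtain ⟨I, hIfg, hI⟩ := exists_fg_ideal 𝔸 hA hfg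
  letI : ∀ n, Algebra 𝔸.lim (𝔸.A n) := fun n => (𝔸.proj n).toAlgebra
  let f : ∀ n, 𝔸.A (n + 1) →ₗ[𝔸.lim] 𝔸.A n := fun m =>
    { toFun := 𝔸.f m
      map_add' := map_add _
      map_smul' := fun c x => by
        change 𝔸.f m (𝔸.proj (m + 1) c * x) = 𝔸.proj m c * 𝔸.f m x
        rw [map_mul]
        exact congrArg (· * _) (c.2 m) }
  have hker : ∀ n, LinearMap.ker (f n) = I ^ (n + 1) • (⊤ : Submodule 𝔸.lim (𝔸.A (n + 1))) := by
    intro n
    rw [Ideal.smul_top_eq_map, Ideal.map_pow, RingHom.algebraMap_toAlgebra, hI, ← hA]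
    ext x; rfl
  obtain ⟨hc, hπ, -⟩ := CompleteLib.limit_of_fg I 𝔸.A f 𝔸.surj hker 𝔸.lim
    (fun n => Algebra.linearMap 𝔸.lim (𝔸.A n)) (fun n => LinearMap.ext fun x => x.2 n)
    (fun x hx => Subtype.ext (funext hx)) (fun y hy => ⟨⟨y, hy⟩, fun _ => rfl⟩) hIfg
  have hk : ∀ n, RingHom.ker (𝔸.proj n) = I ^ (n + 1) := fun n => by
    ext x
    have := SetLike.ext_iff.mp (hπ n).2 x
    rw [smul_eq_mul, Ideal.mul_top] at this
    exact this
  refine ⟨I, ?_, hc, hk⟩
  have e0 : RingHom.ker (𝔸.proj 0) = I := by rw [hk, zero_add, pow_one]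
  have : IsNoetherianRing (𝔸.lim ⧸ I) := by
    rw [← e0]
    exact isNoetherianRing_of_ringEquiv (𝔸.A 0)
      (RingHom.quotientKerEquivOfSurjective (𝔸.proj_surjective 0)).symm
  exact CompleteLib.isNoetherianRing_of_isAdicComplete I hIfg

end RSys

end Sys

theorem exists_iso_spf (𝔛 : Sys.{u}) (hF : 𝔛.IsFormal) (hA : 𝔛.IsAdic)
    [IsAffine (𝔛.X 0)] [IsLocallyNoetherian (𝔛.X 0)] (hft : IdealFT (𝔛.ι 0).ker) :
    ∃ (A : Type u) (_ : CommRing A) (J : Ideal A),
      IsNoetherianRing A ∧ IsAdicComplete J A ∧ Nonempty (𝔛 ≅ spf A J) := by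
  have haff : ∀ n, IsAffine (𝔛.X n) := fun n => by
    have := isClosedImmersion_toX hF n
    have := surjective_toX hF n
    exact ChevLib.isAffine_of_surjective_universallyClosed (𝔛.toX n)
  have hcl : ∀ n, IsClosedImmersion (𝔛.ι n) := fun n => (hF n).1
  let 𝔸 : RSys.{u} :=
    { A := fun n => Γ(𝔛.X n, ⊤)
      f := fun n => (𝔛.ι n).appTop.hom
      surj := fun n => (𝔛.ι n).app_surjective ⊤ (isAffineOpen_top _) }
  have h0 : ∀ n, 𝔸.toZero n = (𝔛.toX n).appTop.hom := by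
    intro n
    induction n with
    | zero => rfl
    | succ n ih =>
      change (𝔸.toZero n).comp _ = _
      rw [ih, toX_succ, Scheme.Hom.comp_appTop]
      rfl
  have hAA : ∀ n, RingHom.ker (𝔸.f n) = (RingHom.ker (𝔸.toZero (n + 1))) ^ (n + 1) := fun n => by
    have := isClosedImmersion_toX hF (n + 1)
    have h := congrArg (fun I : (𝔛.X (n + 1)).IdealSheafData => I.ideal ⟨⊤, isAffineOpen_top _⟩) (hA n)
    simp only [Scheme.Hom.ker_apply, Scheme.IdealSheafData.ideal_pow, Pi.pow_apply] at h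
    rw [h0]
    exact h
  have : IsNoetherianRing (𝔸.A 0) := IsLocallyNoetherian.component_noetherian ⟨⊤, isAffineOpen_top _⟩
  have hfg : (RingHom.ker (𝔸.toZero 1)).FG := by
    have h := hft ⟨⊤, isAffineOpen_top _⟩
    rw [Scheme.Hom.ker_apply] at h
    exact h
  obtain ⟨I, hN, hc, hk⟩ := RSys.limit_main 𝔸 hAA hfg
  refine ⟨𝔸.lim, inferInstance, I, hN, hc, ?_⟩
  let φ : ∀ n, 𝔸.lim ⧸ I ^ (n + 1) ≃+* 𝔸.A n := fun n =>
    (Ideal.quotEquivOfEq (hk n).symm).trans (RingHom.quotientKerEquivOfSurjective (𝔸.proj_surjective n))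
  have hφ : ∀ n x, φ n (Ideal.Quotient.mk _ x) = 𝔸.proj n x := fun n x => rfl
  let e : ∀ n, 𝔛.X n ≅ (spf 𝔸.lim I).X n := fun n =>
    (𝔛.X n).isoSpec ≪≫ Scheme.Spec.mapIso (φ n).toCommRingCatIso.op
  have he : ∀ n, (e n).hom ≫ (spf 𝔸.lim I).ι n = 𝔛.ι n ≫ (e (n + 1)).hom := fun n => by
    have hq : CommRingCat.ofHom (φ (n + 1)).toRingHom ≫ (𝔛.ι n).appTop =
        CommRingCat.ofHom (Ideal.Quotient.factor (Ideal.pow_le_pow_right (I := I) (Nat.le_succ (n + 1)))) ≫
          CommRingCat.ofHom (φ n).toRingHom := by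
      refine CommRingCat.hom_ext (Ideal.Quotient.ringHom_ext (RingHom.ext fun x => ?_))
      exact x.2 n
    change ((𝔛.X n).isoSpec.hom ≫ Spec.map (CommRingCat.ofHom (φ n).toRingHom)) ≫
        CohB1.specQuotTrans I n =
      𝔛.ι n ≫ (𝔛.X (n + 1)).isoSpec.hom ≫ Spec.map (CommRingCat.ofHom (φ (n + 1)).toRingHom)
    rw [CohB1.specQuotTrans, Category.assoc, ← Spec.map_comp, ← hq, Spec.map_comp]
    rw [← Category.assoc, ← Category.assoc]
    congr 1
    rw [← Iso.eq_inv_comp, ← Category.assoc, ← Scheme.isoSpec_inv_naturality, Category.assoc,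
      Iso.inv_hom_id, Category.comp_id]
  refine ⟨⟨⟨fun n => (e n).hom, he⟩, ⟨fun n => (e n).inv, fun n => ?_⟩, ?_, ?_⟩⟩
  · rw [Iso.inv_comp_eq, ← Category.assoc, he, Category.assoc, Iso.hom_inv_id, Category.comp_id]
  · exact FSch.Hom.ext (funext fun n => (e n).hom_inv_id)
  · exact FSch.Hom.ext (funext fun n => (e n).inv_hom_id)

end FComplLib
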