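import Groth.Agent.FComplLib.Thicken
import Groth.Agent.FComplLib.Completion
import Groth.Agent.FlatMorLib.Pull
import Groth.Prelude.Def_FSch5
import Mathlib.RingTheory.AdicCompletion.AsTensorProduct
import Mathlib.RingTheory.Flat.EquationalCriterion
import Mathlib.RingTheory.Flat.Localization
import Mathlib.AlgebraicGeometry.Morphisms.Flat

/-!
# The completion of a locally Noetherian scheme is flat over it
-/

set_option autoImplicit false

universe u

open CategoryTheory CategoryTheory.Limits TopologicalSpace Opposite AlgebraicGeometry FSch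

namespace FComplLib

/-- Flatness is local for a module made of germs. -/
theorem flat_of_lifts {A M : Type u} [CommRing A] [AddCommGroup M] [Module A M]
    (h : ∀ {l : ℕ} (r : Fin l → A) (x : Fin l → M), ∑ i, r i • x i = 0 →
      ∃ (N : Type u) (_ : AddCommGroup N) (_ : Module A N) (_ : Module.Flat A N) (g : N →ₗ[A] M)
        (y : Fin l → N), (∀ i, g (y i) = x i) ∧ ∑ i, r i • y i = 0) : Module.Flat A M := by
  rw [Module.Flat.iff_forall_isTrivialRelation]
  intro l r x hx
  obtain ⟨N, _, _, _, g, y, hy, hr⟩ := h r x hx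
  obtain ⟨k, a, z, hz, ha⟩ := Module.Flat.iff_forall_isTrivialRelation.mp ‹_› hr
  refine ⟨k, a, fun j => g (z j), fun i => ?_, ha⟩
  rw [← hy i, hz i, map_sum]
  simp only [map_smul]

section Aux

theorem ker_appLE_of_eq {Z X : Scheme.{u}} (g : Z ⟶ X) (U : X.Opens) (V : Z.Opens)
    (e : V ≤ g ⁻¹ᵁ U) (he : g ⁻¹ᵁ U = V) :
    RingHom.ker (g.appLE U V e).hom = RingHom.ker (g.app U).hom := by
  subst he
  rw [Scheme.Hom.app_eq_appLE]

end Aux

variable {X : Scheme.{u}} [IsLocallyNoetherian X] (𝓘 : X.IdealSheafData)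
  (h : (completionAlong X 𝓘).IsFormal)

/-- The map on sections of structure sheaves. -/
noncomputable abbrev sharpC : X.sheaf ⟶
    (TopCat.Sheaf.pushforward CommRingCat.{u} (completionToX X 𝓘 0).base).obj
      ((completionAlong X 𝓘).Osh h) :=
  schSharp (completionAlong X 𝓘) h (completionToX X 𝓘) (completionToX_comm X 𝓘)

/-- Sections of `O` of the completion over the preimage of `D`. -/
noncomputable abbrev secB (D : X.Opens) : CommRingCat.{u} :=
  ((completionAlong X 𝓘).Osh h).obj.obj (op (completionToX X 𝓘 0 ⁻¹ᵁ D))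

/-- The map `Γ(D, O_X) → Γ(D, O)`. -/
noncomputable abbrev secMap (D : X.Opens) : Γ(X, D) ⟶ secB 𝓘 h D :=
  (sharpC 𝓘 h).hom.app (op D)

/-- Levelwise sections. -/
noncomputable abbrev secLevel (n : ℕ) (D : X.Opens) : CommRingCat.{u} :=
  ((completionAlong X 𝓘).levelObj h n).obj.obj (op (completionToX X 𝓘 0 ⁻¹ᵁ D))

/-- The projection. -/
noncomputable abbrev secProj (n : ℕ) (D : X.Opens) : secB 𝓘 h D ⟶ secLevel 𝓘 h n D :=
  ((completionAlong X 𝓘).OshProj h n).hom.app (op (completionToX X 𝓘 0 ⁻¹ᵁ D))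

/-- Sections to level `n`. -/
noncomputable abbrev levMap (n : ℕ) (D : X.Opens) : Γ(X, D) ⟶ secLevel 𝓘 h n D :=
  (completionToX X 𝓘 n).appLE D ((completionAlong X 𝓘).lvU h n (completionToX X 𝓘 0 ⁻¹ᵁ D))
    (lvU_p (completionAlong X 𝓘) h (completionToX X 𝓘) (completionToX_comm X 𝓘) n D).ge

theorem secMap_proj (n : ℕ) (D : X.Opens) :
    secMap 𝓘 h D ≫ secProj 𝓘 h n D = levMap 𝓘 h n D := by
  have := congrArg (fun a => a.hom.app (op D))
    (schSharp_proj (completionAlong X 𝓘) h (completionToX X 𝓘) (completionToX_comm X 𝓘) n)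
  exact this

theorem levMap_surjective (n : ℕ) (D : X.affineOpens) :
    Function.Surjective (levMap 𝓘 h n D.1) := by
  have : IsClosedImmersion (completionToX X 𝓘 n) := inferInstanceAs (IsClosedImmersion
    (Scheme.IdealSheafData.subschemeι _))
  exact surjective_appLE _ _ D.2 _ _
    (lvU_p (completionAlong X 𝓘) h (completionToX X 𝓘) (completionToX_comm X 𝓘) n D.1).symm

theorem ker_levMap (n : ℕ) (D : X.affineOpens) :
    RingHom.ker (levMap 𝓘 h n D.1).hom = 𝓘.ideal D ^ (n + 1) := by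
  have : IsClosedImmersion (completionToX X 𝓘 n) := inferInstanceAs (IsClosedImmersion
    (Scheme.IdealSheafData.subschemeι _))
  refine (ker_appLE_of_eq (completionToX X 𝓘 n) D.1 _ _
    (lvU_p (completionAlong X 𝓘) h (completionToX X 𝓘) (completionToX_comm X 𝓘) n D.1)).trans ?_
  rw [← Scheme.Hom.ker_apply, show (completionToX X 𝓘 n).ker = 𝓘 ^ (n + 1) from
    Scheme.IdealSheafData.ker_subschemeι _, Scheme.IdealSheafData.ideal_pow, Pi.pow_apply]

theorem secProj_succ (n : ℕ) (D : X.Opens) (b : secB 𝓘 h D) :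
    ((completionAlong X 𝓘).levelMap h n).hom.app (op (completionToX X 𝓘 0 ⁻¹ᵁ D))
      (secProj 𝓘 h (n + 1) D b) = secProj 𝓘 h n D b := by
  have := congrArg (fun a => a.hom.app (op (completionToX X 𝓘 0 ⁻¹ᵁ D)))
    ((completionAlong X 𝓘).OshProj_levelMap h n)
  exact congr($this b)

theorem levMap_succ (n : ℕ) (D : X.Opens) :
    levMap 𝓘 h (n + 1) D ≫ ((completionAlong X 𝓘).levelMap h n).hom.app
      (op (completionToX X 𝓘 0 ⁻¹ᵁ D)) = levMap 𝓘 h n D := by
  have := congrArg (fun a => a.hom.app (op D))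
    (schLevel_levelMap (completionAlong X 𝓘) h (completionToX X 𝓘) (completionToX_comm X 𝓘) n)
  exact this

/-- Sections over the preimage of an open form the limit. -/
noncomputable def secLimit (D : X.Opens) :
    IsLimit ((sheafToPresheaf (Opens.grothendieckTopology ((completionAlong X 𝓘).X 0)) CommRingCat.{u} ⋙
      (evaluation _ CommRingCat.{u}).obj (op (completionToX X 𝓘 0 ⁻¹ᵁ D))).mapCone
      (limit.cone ((completionAlong X 𝓘).levelRing h))) :=
  isLimitOfPreserves _ (limit.isLimit _)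

theorem secB_ext (D : X.Opens) (b b' : secB 𝓘 h D)
    (hb : ∀ n, secProj 𝓘 h n D b = secProj 𝓘 h n D b') : b = b' :=
  Concrete.isLimit_ext _ (secLimit 𝓘 h D) b b' fun ⟨n⟩ => hb n

/-- The comparison of the adic completion with sections of `O`. -/
theorem flat_secMap (D : X.affineOpens) : (secMap 𝓘 h D.1).hom.Flat := by
  let J := 𝓘.ideal D
  have : IsNoetherianRing Γ(X, D.1) := IsLocallyNoetherian.component_noetherian D
  let e (n : ℕ) : (Γ(X, D.1) ⧸ J ^ (n + 1)) →+* secLevel 𝓘 h n D.1 :=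
    Ideal.Quotient.lift (J ^ (n + 1)) (levMap 𝓘 h n D.1).hom fun a ha =>
      RingHom.mem_ker.mp ((ker_levMap 𝓘 h n D).symm ▸ ha)
  let θ (n : ℕ) : CommRingCat.of (AdicCompletion J Γ(X, D.1)) ⟶ secLevel 𝓘 h n D.1 :=
    CommRingCat.ofHom ((e n).comp (AdicCompletion.evalₐ J (n + 1)).toRingHom)
  have hθapp : ∀ n x, θ n x = e n (AdicCompletion.evalₐ J (n + 1) x) := fun _ _ => rfl
  have hθ : ∀ n x, ((completionAlong X 𝓘).levelMap h n).hom.app
      (op (completionToX X 𝓘 0 ⁻¹ᵁ D.1)) (θ (n + 1) x) = θ n x := by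
    intro n x
    induction x using AdicCompletion.induction_on with
    | _ a =>
      rw [hθapp, hθapp, AdicCompletion.evalₐ_mk, AdicCompletion.evalₐ_mk]
      simp only [e, Ideal.Quotient.lift_mk]
      rw [← ConcreteCategory.comp_apply, levMap_succ]
      rw [← sub_eq_zero, ← map_sub, ← RingHom.mem_ker, ker_levMap]
      have := AdicCompletion.AdicCauchySequence.mk_eq_mk (show n + 1 ≤ n + 2 by omega) a
      rw [Submodule.Quotient.eq, smul_eq_mul, Ideal.mul_top] at this
      exact this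
  let cn : Cone ((completionAlong X 𝓘).levelRing h ⋙
      sheafToPresheaf (Opens.grothendieckTopology ((completionAlong X 𝓘).X 0)) CommRingCat.{u} ⋙
      (evaluation _ CommRingCat.{u}).obj (op (completionToX X 𝓘 0 ⁻¹ᵁ D.1))) :=
    { pt := CommRingCat.of (AdicCompletion J Γ(X, D.1))
      π := NatTrans.ofOpSequence θ fun n => by
        simp only [Functor.const_obj_obj, Functor.const_obj_map, Category.id_comp, Functor.comp_map,
          Sys.levelRing_map_succ]
        ext x
        exact (hθ n x).symm }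
  let Ψ : CommRingCat.of (AdicCompletion J Γ(X, D.1)) ⟶ secB 𝓘 h D.1 :=
    (secLimit 𝓘 h D.1).lift cn
  have hΨ : ∀ n x, secProj 𝓘 h n D.1 (Ψ x) = θ n x := fun n x =>
    congr($((secLimit 𝓘 h D.1).fac cn (op n)) x)
  have hbij : Function.Bijective Ψ := by
    constructor
    · refine (injective_iff_map_eq_zero Ψ.hom).mpr fun x hx => AdicCompletion.ext_evalₐ fun m => ?_
      have h0 : ∀ n, AdicCompletion.evalₐ J (n + 1) x = 0 := fun n => by
        have hn : θ n x = 0 := by rw [← hΨ n x, hx, map_zero]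
        change e n (AdicCompletion.evalₐ J (n + 1) x) = 0 at hn
        obtain ⟨r, hr⟩ := Ideal.Quotient.mk_surjective (AdicCompletion.evalₐ J (n + 1) x)
        rw [← hr] at hn ⊢
        simp only [e, Ideal.Quotient.lift_mk] at hn
        rw [Ideal.Quotient.eq_zero_iff_mem]
        change r ∈ J ^ (n + 1)
        rw [← ker_levMap 𝓘 h n D]
        exact hn
      induction x using AdicCompletion.induction_on with
      | _ a =>
        have := h0 m
        rw [AdicCompletion.evalₐ_mk, Ideal.Quotient.eq_zero_iff_mem] at this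
        rw [map_zero, AdicCompletion.evalₐ_mk, Ideal.Quotient.eq_zero_iff_mem]
        have h2 := AdicCompletion.AdicCauchySequence.mk_eq_mk (show m ≤ m + 1 by omega) a
        rw [Submodule.Quotient.eq, smul_eq_mul, Ideal.mul_top] at h2
        simpa using Ideal.sub_mem _ (Ideal.pow_le_pow_right (show m ≤ m + 1 by omega) this) h2
    · intro b
      choose r hr using fun n => levMap_surjective 𝓘 h n D (secProj 𝓘 h n D.1 b)
      have hc : AdicCompletion.IsAdicCauchy J Γ(X, D.1) r := by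
        rw [AdicCompletion.isAdicCauchy_iff]
        intro n
        rw [SModEq.sub_mem, smul_eq_mul, Ideal.mul_top]
        refine Ideal.pow_le_pow_right (show n ≤ n + 1 by omega) ?_
        rw [← ker_levMap 𝓘 h n D, RingHom.mem_ker, map_sub, sub_eq_zero]
        refine (hr n).trans ?_
        rw [← levMap_succ 𝓘 h n D.1]
        exact (secProj_succ 𝓘 h n D.1 b).symm.trans (congrArg _ (hr (n + 1)).symm)
      refine ⟨AdicCompletion.mk J Γ(X, D.1) ⟨r, hc⟩, secB_ext 𝓘 h D.1 _ _ fun n => ?_⟩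
      rw [hΨ]
      rw [hθapp, AdicCompletion.evalₐ_mk]
      simp only [e, Ideal.Quotient.lift_mk]
      rw [← levMap_succ 𝓘 h n D.1]
      exact (congrArg _ (hr (n + 1))).trans (secProj_succ 𝓘 h n D.1 b)
  have hcomp : (secMap 𝓘 h D.1).hom =
      Ψ.hom.comp (algebraMap Γ(X, D.1) (AdicCompletion J Γ(X, D.1))) := by
    ext a
    refine secB_ext 𝓘 h D.1 _ _ fun n => ?_
    refine (congr($(secMap_proj 𝓘 h n D.1) a)).trans ?_
    refine ((hΨ n _).trans ?_).symm
    change e n (AdicCompletion.evalₐ J (n + 1) (algebraMap _ _ a)) = _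
    rw [AlgHom.commutes]
    rfl
  rw [hcomp]
  refine RingHom.Flat.comp ?_ (RingHom.Flat.of_bijective hbij)
  exact RingHom.flat_algebraMap_iff.mpr inferInstance

theorem flat_stalkHom (x : (completionAlong X 𝓘).X 0) :
    (FlatMorLib.stalkHom (completionToX X 𝓘 0).base ((completionAlong X 𝓘).Osh h) X.sheaf
      (sharpC 𝓘 h) x).hom.Flat := by
  let f := completionToX X 𝓘 0
  let O : TopCat.Sheaf CommRingCat.{u} ((completionAlong X 𝓘).X 0).toTopCat :=
    (completionAlong X 𝓘).Osh h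
  let σ := FlatMorLib.stalkHom f.base O X.sheaf (sharpC 𝓘 h) x
  obtain ⟨W, hW, hxW, -⟩ := exists_isAffineOpen_mem_and_subset (X := X) (U := ⊤) (x := f x) trivial
  let gW : Γ(X, W) →+* O.presheaf.stalk x :=
    σ.hom.comp (X.presheaf.germ W (f x) hxW).hom
  letI : Algebra Γ(X, W) (O.presheaf.stalk x) := gW.toAlgebra
  letI : Algebra (X.presheaf.stalk (f x)) (O.presheaf.stalk x) := σ.hom.toAlgebra
  letI : Algebra Γ(X, W) (X.presheaf.stalk (f x)) := (X.presheaf.germ W (f x) hxW).hom.toAlgebra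
  have : IsScalarTower Γ(X, W) (X.presheaf.stalk (f x)) (O.presheaf.stalk x) :=
    IsScalarTower.of_algebraMap_eq fun _ => rfl
  have := hW.isLocalization_stalk ⟨f x, hxW⟩
  refine (Module.flat_iff_of_isLocalization (R := Γ(X, W)) (X.presheaf.stalk (f x))
    (hW.primeIdealOf ⟨f x, hxW⟩).asIdeal.primeCompl (M := O.presheaf.stalk x)).mpr ?_
  have hemb : Topology.IsInducing f.base :=
    (inferInstanceAs (IsClosedImmersion (Scheme.IdealSheafData.subschemeι _)) :
      IsClosedImmersion f).base_closed.isInducing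
  have small : ∀ (V : Opens ((completionAlong X 𝓘).X 0)) (W' : X.Opens), x ∈ V → f x ∈ W' →
      ∃ D : X.affineOpens, f x ∈ D.1 ∧ D.1 ≤ W' ∧ f ⁻¹ᵁ D.1 ≤ V := by
    intro V W' hV hxW'
    obtain ⟨U, hU, e⟩ := hemb.isOpen_iff.mp V.isOpen
    have hxU : f x ∈ U := by
      have : x ∈ f.base ⁻¹' U := by rw [e]; exact hV
      exact this
    obtain ⟨D, hD, hxD, hle⟩ := exists_isAffineOpen_mem_and_subset (X := X)
      (U := (⟨U, hU⟩ : X.Opens) ⊓ W') (x := f x) ⟨hxU, hxW'⟩
    exact ⟨⟨D, hD⟩, hxD, fun z hz => (hle hz).2, fun z hz => by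
      have : z ∈ f.base ⁻¹' U := (hle hz).1
      rw [e] at this
      exact this⟩
  refine flat_of_lifts fun {l} r a ha => ?_
  choose V hV s hs using fun i => O.presheaf.exists_germ_eq (x := x) (a i)
  let V₀ : Opens ((completionAlong X 𝓘).X 0) :=
    ⟨⋂ i, (V i).carrier,
      isOpen_iInter_of_finite fun i => (V i).isOpen⟩
  have hxV₀ : x ∈ V₀ := Set.mem_iInter.mpr fun i => hV i
  obtain ⟨D, hxD, hDW, hDV⟩ := small V₀ W hxV₀ hxW
  have hDVi : ∀ i, f ⁻¹ᵁ D.1 ≤ V i := fun i z hz => Set.mem_iInter.mp (hDV hz) i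
  let ψ (D : X.Opens) (hle : D ≤ W) : Γ(X, W) →+* secB 𝓘 h D :=
    (secMap 𝓘 h D).hom.comp (X.presheaf.map (homOfLE hle).op).hom
  have hψ : ∀ (D : X.Opens) (hxD : f x ∈ D) (hle : D ≤ W) (c : Γ(X, W)),
      O.presheaf.germ (f ⁻¹ᵁ D) x hxD (ψ D hle c) = gW c := fun D hxD hle c => by
    refine (FlatMorLib.stalkHom_germ f.base O X.sheaf (sharpC 𝓘 h) x D hxD
      (X.presheaf.map (homOfLE hle).op c)).symm.trans ?_
    exact congrArg σ (X.presheaf.germ_res_apply (homOfLE hle) (f x) hxD c)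
  let t (i : Fin l) : secB 𝓘 h D.1 := O.presheaf.map (homOfLE (hDVi i)).op (s i)
  have hsum : O.presheaf.germ (f ⁻¹ᵁ D.1) x hxD (∑ i, ψ D.1 hDW (r i) * t i) = 0 := by
    refine Eq.trans ?_ ha
    rw [map_sum]
    refine Finset.sum_congr rfl fun i _ => ?_
    rw [Algebra.smul_def, map_mul]
    exact congrArg₂ (· * ·) (hψ D.1 hxD hDW (r i))
      ((O.presheaf.germ_res_apply (homOfLE (hDVi i)) x hxD (s i)).trans (hs i))
  obtain ⟨V', hxV', i₁, i₂, hz⟩ := O.presheaf.germ_eq (U := f ⁻¹ᵁ D.1) (V := f ⁻¹ᵁ D.1) x hxD hxD (∑ i, ψ D.1 hDW (r i) * t i) 0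
    (hsum.trans (map_zero _).symm)
  obtain ⟨D', hxD', hD'D₀, hD'V⟩ := small (V' ⊓ f ⁻¹ᵁ D.1) D.1 ⟨hxV', hxD⟩ hxD
  have hD'W : D'.1 ≤ W := hD'D₀.trans hDW
  have hD'V' : f ⁻¹ᵁ D'.1 ≤ V' := fun z hz => (hD'V hz).1
  have hD'D : f ⁻¹ᵁ D'.1 ≤ f ⁻¹ᵁ D.1 := fun z hz => (hD'V hz).2
  letI : Algebra Γ(X, W) (secB 𝓘 h D'.1) := (ψ D'.1 hD'W).toAlgebra
  have hflat : Module.Flat Γ(X, W) (secB 𝓘 h D'.1) := by
    rw [← RingHom.flat_algebraMap_iff]
    refine RingHom.Flat.comp ?_ (flat_secMap 𝓘 h D')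
    have := Scheme.Hom.flat_appLE (𝟙 X) hW D'.2 (show D'.1 ≤ (𝟙 X) ⁻¹ᵁ W from hD'W)
    rw [Scheme.Hom.appLE, Scheme.Hom.id_app] at this
    erw [Category.id_comp] at this
    exact this
  let g : secB 𝓘 h D'.1 →ₗ[Γ(X, W)] O.presheaf.stalk x :=
    { toFun := O.presheaf.germ (f ⁻¹ᵁ D'.1) x hxD'
      map_add' := map_add _
      map_smul' := fun c b => by
        rw [Algebra.smul_def, Algebra.smul_def]
        refine (map_mul _ _ _).trans ?_
        exact congrArg (· * _) (hψ D'.1 hxD' hD'W c) }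
  let ρ := O.presheaf.map (homOfLE hD'D).op
  have hρ : ∀ c, ρ (ψ D.1 hDW c) = ψ D'.1 hD'W c := fun c => by
    have hn := congr($((sharpC 𝓘 h).hom.naturality (homOfLE hD'D₀).op)
      (X.presheaf.map (homOfLE hDW).op c))
    refine hn.symm.trans ?_
    change secMap 𝓘 h D'.1 (X.presheaf.map (homOfLE hD'D₀).op (X.presheaf.map (homOfLE hDW).op c)) = _
    exact congrArg (secMap 𝓘 h D'.1)
      (congr($((X.presheaf.map_comp (homOfLE hDW).op (homOfLE hD'D₀).op).symm) c))
  refine ⟨secB 𝓘 h D'.1, inferInstance, inferInstance, hflat, g, fun i => ρ (t i),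
    fun i => ?_, ?_⟩
  · exact (O.presheaf.germ_res_apply (homOfLE hD'D) x hxD' (t i)).trans
      ((O.presheaf.germ_res_apply (homOfLE (hDVi i)) x hxD (s i)).trans (hs i))
  · have hz' : ρ (∑ i, ψ D.1 hDW (r i) * t i) = 0 := by
      have := congrArg (O.presheaf.map (homOfLE hD'V').op) hz
      rw [map_zero, map_zero, ← ConcreteCategory.comp_apply, ← Functor.map_comp] at this
      exact this
    rw [map_sum] at hz'
    refine Eq.trans ?_ hz'
    refine Finset.sum_congr rfl fun i _ => ?_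
    rw [map_mul, hρ, Algebra.smul_def]
    rfl

end FComplLib
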